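import Cfsg.Agent.Lib.RootBlocks41.Sub

/-!
# Root involutions with blocks in a simple group: involutions centralising two blocks
-/

set_option autoImplicit false
set_option linter.unusedSectionVars false

namespace Cfsg.Agent.Lib.RootBlocks41

open Cfsg.Agent.Lib.Elem70

variable {G : Type*} [Group G] {D : Set G} {R : G → G → Prop}

/-- An involution centralising two unrelated members. -/
def Bad (D : Set G) (R : G → G → Prop) (v : G) : Prop :=
  v * v = 1 ∧ v ≠ 1 ∧ ∃ a ∈ D, ∃ e ∈ D, Commute a v ∧ Commute e v ∧ ¬ R a e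

/-- The members commuting with `v`. -/
def Cv (D : Set G) (v : G) : Set G := {x | x ∈ D ∧ Commute x v}

theorem inv_of_mul_self {t : G} (ht : t * t = 1) : t⁻¹ = t := inv_eq_of_mul_eq_one_right ht

theorem commute_of_conj_eq {t b : G} (e : t * b * t⁻¹ = b) : Commute b t :=
  (mul_inv_eq_iff_eq_mul.mp e).symm

theorem conj_eq_of_commute {t b : G} (hc : Commute b t) : t * b * t⁻¹ = b := by
  rw [← hc.eq, mul_inv_cancel_right]

/-- An involution without fixed points acts on an even set. -/
theorem even_of_involution {X : Type*} {s : Finset X} (f : X → X) (hmem : ∀ x ∈ s, f x ∈ s)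
    (hinv : ∀ x ∈ s, f (f x) = x) (hne : ∀ x ∈ s, f x ≠ x) : Even s.card := by
  have h1 : ∑ _x ∈ s, (1 : ZMod 2) = 0 :=
    Finset.sum_involution (fun a _ => f a) (fun a _ => by decide) (fun a ha _ => hne a ha)
      (fun a ha => hmem a ha) (fun a ha => hinv a ha)
  rw [Finset.sum_const, nsmul_one] at h1
  exact ZMod.natCast_eq_zero_iff_even.mp h1

/-- An involution on an odd set has a fixed point. -/
theorem exists_fixed_of_odd {X : Type*} {s : Set X} (hs : s.Finite) (hodd : Odd s.ncard)
    (f : X → X) (hmem : ∀ x ∈ s, f x ∈ s) (hinv : ∀ x ∈ s, f (f x) = x) : ∃ x ∈ s, f x = x := by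
  by_contra hno
  push Not at hno
  refine Nat.not_even_iff_odd.mpr hodd ?_
  rw [Set.ncard_eq_toFinset_card s hs]
  exact even_of_involution f (fun x hx => hs.mem_toFinset.mpr (hmem x (hs.mem_toFinset.mp hx)))
    (fun x hx => hinv x (hs.mem_toFinset.mp hx)) fun x hx => hno x (hs.mem_toFinset.mp hx)

/-- The fixed points of an involution on an odd set form an odd set. -/
theorem odd_fixed {X : Type*} {s : Set X} (hs : s.Finite) (hodd : Odd s.ncard)
    (f : X → X) (hmem : ∀ x ∈ s, f x ∈ s) (hinv : ∀ x ∈ s, f (f x) = x) :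
    Odd {x | x ∈ s ∧ f x = x}.ncard := by
  classical
  have hsplit := Finset.card_filter_add_card_filter_not (s := hs.toFinset) (fun x => f x = x)
  have heven : Even (hs.toFinset.filter fun x => ¬ f x = x).card := by
    refine even_of_involution f (fun x hx => ?_) (fun x hx => ?_) (fun x hx => ?_) <;>
      simp only [Finset.mem_filter, Set.Finite.mem_toFinset] at hx ⊢
    · exact ⟨hmem x hx.1, fun e => hx.2 (by rw [hinv x hx.1] at e; exact e.symm)⟩
    · exact hinv x hx.1
    · exact hx.2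
  have e : {x | x ∈ s ∧ f x = x} = ↑(hs.toFinset.filter fun x => f x = x) := by
    ext x; simp
  rw [e, Set.ncard_coe_finset]
  rw [Set.ncard_eq_toFinset_card s hs, ← hsplit] at hodd
  exact (Nat.odd_add.mp hodd).mpr heven

namespace Blocks

variable [Finite G] (h : Blocks D R)
include h

theorem bad_not_mem {v : G} (hv : Bad D R v) : v ∉ D := fun hvD => by
  obtain ⟨-, -, a, ha, e, he, hca, hce, hn⟩ := hv
  exact hn (h.trans ha hvD he (h.comm ha hvD hca) (h.comm hvD he hce.symm))

theorem bad_conj {v : G} (hv : Bad D R v) (g : G) : Bad D R (g * v * g⁻¹) := by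
  obtain ⟨h1, h2, a, ha, e, he, hca, hce, hn⟩ := hv
  refine ⟨by rw [← RootInv12.conj_mul', h1, mul_one, mul_inv_cancel],
    fun e' => h2 (conj_eq_one_iff.mp e'), g * a * g⁻¹,
    conj_self h.hD g ha, g * e * g⁻¹, conj_self h.hD g he, RootInv12.commute_conj hca g,
    RootInv12.commute_conj hce g, fun hr => hn ((h.rel_conj_iff ha he g).mp hr)⟩

/-- An unrelated partner in `Cv`. -/
theorem exists_far {v a : G} (hv : Bad D R v) (ha : a ∈ D) :
    ∃ e ∈ D, Commute e v ∧ ¬ R a e := by
  obtain ⟨-, -, b, hb, e, he, hcb, hce, hn⟩ := hv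
  by_cases hab : R a b
  · exact ⟨e, he, hce, fun hae => hn (h.trans hb ha he (h.symm ha hb hab) hae)⟩
  · exact ⟨b, hb, hcb, hab⟩

theorem sub_cv {v : G} (hv : Bad D R v) :
    Blocks {x : ↥(Subgroup.closure (Cv D v)) | (x : G) ∈ Cv D v} (fun x y => R x y) := by
  refine h.sub (fun x hx => hx.1) (fun s hs t ht => ⟨conj_mem2 h.hD hs.1 ht.1,
    ((hs.2.mul_left ht.2).mul_left hs.2)⟩) (fun a ha b hb h4 => ⟨?_, ?_⟩) ?_
  · rcases trichotomy h.hD ha.1 hb.1 with hc | ho | ⟨-, hg⟩
    · exact absurd hc.eq (RootInv.not_comm_of_four h.hD ha.1 hb.1 h4)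
    · have := ho.2.2.2; rw [h4] at this; exact absurd this (by decide)
    · exact hg
  · exact (ha.2.mul_left hb.2).pow_left 2
  · obtain ⟨-, -, a, ha, e, he, hca, hce, hn⟩ := hv
    exact ⟨a, ⟨ha, hca⟩, e, ⟨he, hce⟩, hn⟩

theorem odd_cv (ho : OddBlocks D R) {v : G} (hv : v * v = 1) :
    OddBlocks {x : ↥(Subgroup.closure (Cv D v)) | (x : G) ∈ Cv D v} (fun x y => R x y) := by
  intro a ha
  have hva : v * (a : G) * v⁻¹ = a := conj_eq_of_commute ha.2
  have h1 := odd_fixed (Set.toFinite _) (ho a ha.1) (fun x => v * x * v⁻¹)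
    (fun x hx => ⟨conj_self h.hD v hx.1, by
      have := h.conj ha.1 hx.1 hx.2 v; rwa [hva] at this⟩)
    (fun x _ => by
      rw [RootInv12.conj_conj, hv]; simp)
  refine Eq.subst (motive := fun n => Odd n) ?_ h1
  symm
  refine Set.ncard_congr (fun x _ => (x : G)) (fun x hx => ?_) (fun x y _ _ e => Subtype.ext e)
    fun y hy => ⟨⟨y, Subgroup.subset_closure ⟨hy.1.1, commute_of_conj_eq hy.2⟩⟩,
      ⟨⟨hy.1.1, commute_of_conj_eq hy.2⟩, hy.1.2⟩, rfl⟩
  exact ⟨⟨hx.1.1, hx.2⟩, conj_eq_of_commute hx.1.2⟩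

theorem not_commute_all (hs : IsSimpleGroup G) : ∃ x y : G, ¬ Commute x y := by
  obtain ⟨a, ha, e, he, hn⟩ := h.ex
  exact ⟨a, e, fun hc => hn (h.comm ha he hc)⟩

/-- In a simple group a nontrivial element moves some block. -/
theorem exists_moved (hs : IsSimpleGroup G) {t : G} (ht : t ≠ 1) :
    ∃ x ∈ D, ¬ R x (t * x * t⁻¹) := by
  by_contra hno
  push Not at hno
  let N : Subgroup G :=
    { carrier := {g | ∀ x ∈ D, R x (g * x * g⁻¹)}
      one_mem' := fun x hx => by simpa using h.self hx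
      mul_mem' := fun {p q} hp hq x hx => by
        have h1 := hp _ (conj_self h.hD q hx)
        rw [RootInv12.conj_conj] at h1
        exact h.trans hx (conj_self h.hD q hx) (conj_self h.hD _ hx) (hq x hx) h1
      inv_mem' := fun {p} hp x hx => by
        have h1 := hp _ (conj_self h.hD p⁻¹ hx)
        rw [RootInv12.conj_conj, mul_inv_cancel, one_mul, inv_one, mul_one] at h1
        exact h.symm (conj_self h.hD p⁻¹ hx) hx h1 }
  haveI : N.Normal := ⟨fun p hp g x hx => by
    have h1 := h.conj (conj_self h.hD g⁻¹ hx) (conj_self h.hD p (conj_self h.hD g⁻¹ hx))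
      (hp _ (conj_self h.hD g⁻¹ hx)) g
    rw [RootInv12.conj_conj, RootInv12.conj_conj, mul_inv_cancel, one_mul, inv_one, mul_one,
      RootInv12.conj_conj] at h1
    exact h1⟩
  rcases hs.eq_bot_or_eq_top_of_normal N inferInstance with hN | hN
  · have : t ∈ N := hno
    rw [hN, Subgroup.mem_bot] at this
    exact ht this
  · obtain ⟨a, ha, e, he, hn⟩ := h.ex
    have hmem : a ∈ N := by rw [hN]; trivial
    have h1 := hmem e he
    rw [RootInvolutions.inv_self h.hD ha] at h1
    exact h.moves ha he hn h1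

/-- The middle of a moved member and its image. -/
theorem exists_mid_of_moved {t x : G} (ht : t * t = 1) (hx : x ∈ D)
    (hm : ¬ R x (t * x * t⁻¹)) :
    ∃ j ∈ D, Commute j t ∧ ¬ R j x ∧ Commute (t * j) x ∧
      ∀ c, Commute c t → Commute c x → Commute c j := by
  set x' := t * x * t⁻¹ with hx'
  have hx'D : x' ∈ D := conj_self h.hD t hx
  have hadj := h.adj_of_not hx hx'D hm
  obtain ⟨hjD, hjx, hxj, hcen⟩ := mid_spec h.hD hadj
  set j := mid x x' with hj
  have ti := inv_of_mul_self ht
  have hjj := RootInvolutions.mul_self h.hD hjD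
  have hback : j * x' * j = x := by
    rw [← hjx]
    calc j * (j * x * j) * j = j * j * x * (j * j) := by simp only [mul_assoc]
      _ = x := by rw [hjj, one_mul, mul_one]
  have hjR : ¬ R x j := fun hr => by
    have h1 := h.conj hx hjD hr j
    rw [mul_inv_cancel_right, RootInvolutions.inv_self h.hD hjD, hjx] at h1
    exact hm (h.trans hx hjD hx'D hr (h.symm hx'D hjD h1))
  have hx'j : Cfsg.OddAdj D x' j := by
    refine h.adj_of_not hx'D hjD fun hr => ?_
    have h1 := h.conj hx'D hjD hr j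
    rw [mul_inv_cancel_right, RootInvolutions.inv_self h.hD hjD, hback] at h1
    exact hjR h1
  have hadj' : Cfsg.OddAdj D x (t * j * t⁻¹) := by
    have := RootInv12.adj_conj h.hD hx'j t
    rwa [hx', RootInv12.conj_conj, ht, one_mul, inv_one, mul_one] at this
  have hcomm : Commute j t := by
    refine commute_of_conj_eq (mid_unique h.hD hadj' hxj ?_)
    rw [hjx, ti]
    calc t * j * t * x * (t * j * t) = t * (j * x' * j) * t := by
          rw [hx', ti]; simp only [mul_assoc]
      _ = x' := by rw [hback, hx', ti]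
  refine ⟨j, hjD, hcomm, fun hr => hjR (h.symm hjD hx hr), ?_, fun c hct hcx => ?_⟩
  · show t * j * x = x * (t * j)
    have e : j * x = x' * j := by rw [← hjx, mul_assoc _ j j, hjj, mul_one]
    calc t * j * x = t * x' * j := by rw [mul_assoc, e, ← mul_assoc]
      _ = x * (t * j) := by
          rw [hx', ti, ← mul_assoc t (t * x) t, ← mul_assoc t t x, ht, one_mul, mul_assoc]
  · refine hcen c hcx ?_
    rw [hx', ti]
    exact (hct.mul_right hcx).mul_right hct

theorem bad_of_mid {t x j : G} (ht : t * t = 1) (hx : x ∈ D) (hj : j ∈ D) (hne : t ≠ j)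
    (hc : Commute j t) (hn : ¬ R j x) (hcx : Commute (t * j) x) : Bad D R (t * j) := by
  refine ⟨?_, fun e => hne ?_, j, hj, x, hx, hc.mul_right (Commute.refl j), hcx.symm, hn⟩
  · calc t * j * (t * j) = t * (j * t) * j := by simp only [mul_assoc]
      _ = t * (t * j) * j := by rw [hc.eq]
      _ = 1 := by rw [← mul_assoc t t j, ht, one_mul, RootInvolutions.mul_self h.hD hj]
  · rw [eq_inv_of_mul_eq_one_left e, RootInvolutions.inv_self h.hD hj]

/-- Multiplying a bad involution by a member it centralises. -/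
theorem bad_mul_member (hs : IsSimpleGroup G) {v r : G} (hv : Bad D R v) (hr : r ∈ D)
    (hrv : Commute r v) : Bad D R (v * r) := by
  have hW := h.sub_cv hv
  obtain ⟨x, hx, hxm⟩ := h.exists_moved hs hv.2.1
  obtain ⟨j, hj, hjv, hjx, hjc, -⟩ := h.exists_mid_of_moved hv.1 hx hxm
  have hb := h.bad_of_mid hv.1 hx hj (fun e => h.bad_not_mem hv (e ▸ hj)) hjv hjx hjc
  obtain ⟨g, hg⟩ := hW.cl ⟨j, Subgroup.subset_closure ⟨hj, hjv⟩⟩ ⟨hj, hjv⟩
    ⟨r, Subgroup.subset_closure ⟨hr, hrv⟩⟩ ⟨hr, hrv⟩
  have hg' : r = (g : G) * j * (g : G)⁻¹ := congrArg Subtype.val hg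
  have hgv : Commute (g : G) v := by
    have : Subgroup.closure (Cv D v) ≤ Subgroup.centralizer {v} := by
      rw [Subgroup.closure_le]
      exact fun y hy => Subgroup.mem_centralizer_singleton_iff.mpr hy.2.eq
    exact Subgroup.mem_centralizer_singleton_iff.mp (this g.2)
  have := h.bad_conj hb g
  rwa [RootInv12.conj_mul', hgv.eq, mul_inv_cancel_right, ← hg'] at this

theorem closure_cv_ne_top (hs : IsSimpleGroup G) {v : G} (hv : Bad D R v) :
    Subgroup.closure (Cv D v) ≠ ⊤ := fun htop => by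
  have hle : Subgroup.closure (Cv D v) ≤ Subgroup.centralizer {v} := by
    rw [Subgroup.closure_le]
    exact fun y hy => Subgroup.mem_centralizer_singleton_iff.mpr hy.2.eq
  rw [htop, top_le_iff] at hle
  have hvc : v ∈ Subgroup.center G := Subgroup.mem_center_iff.mpr fun g =>
    Subgroup.mem_centralizer_singleton_iff.mp (hle ▸ Subgroup.mem_top g)
  rcases hs.eq_bot_or_eq_top_of_normal (Subgroup.center G) inferInstance with hZ | hZ
  · rw [hZ, Subgroup.mem_bot] at hvc; exact hv.2.1 hvc
  · obtain ⟨x, y, hxy⟩ := h.not_commute_all hs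
    exact hxy (Subgroup.mem_center_iff.mp (hZ ▸ Subgroup.mem_top y) x)

theorem card_cv_lt (hs : IsSimpleGroup G) {v : G} (hv : Bad D R v) :
    Nat.card ↥(Subgroup.closure (Cv D v)) < Nat.card G := by
  refine lt_of_le_of_ne (Subgroup.card_le_card_group _) fun e => h.closure_cv_ne_top hs hv ?_
  exact Subgroup.eq_top_of_card_eq _ e

/-- A member related to a member commuting with `v`, unique fixed member in an odd block. -/
theorem exists_fixed_rel (ho : OddBlocks D R) {t a : G} (ht : t * t = 1) (ha : a ∈ D)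
    (hr : R a (t * a * t⁻¹)) : ∃ b ∈ D, R a b ∧ Commute b t := by
  obtain ⟨b, ⟨hb, hab⟩, he⟩ := exists_fixed_of_odd (Set.toFinite _) (ho a ha)
    (fun x => t * x * t⁻¹)
    (fun x hx => ⟨conj_self h.hD t hx.1, h.trans ha (conj_self h.hD t ha) (conj_self h.hD t hx.1)
      hr (h.conj ha hx.1 hx.2 t)⟩)
    (fun x _ => by rw [RootInv12.conj_conj, ht]; simp)
  exact ⟨b, hb, hab, commute_of_conj_eq he⟩

end Blocks

end Cfsg.Agent.Lib.RootBlocks41
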