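import Cfsg.Agent.Lib.RootInv12.Classes
import Cfsg.Agent.Lib.RootInv.SameOdd

/-!
# Root involutions with blocks

An equivalence `R` on a class `D` of root involutions which contains commutation, is invariant under
conjugation and is not total: unrelated members have products of odd order, every member fixes only
its own block, and midpoints are unique.
-/

set_option autoImplicit false
set_option linter.unusedSectionVars false

namespace Cfsg.Agent.Lib.RootBlocks41

open Cfsg.Agent.Lib.Elem70

variable {G : Type*} [Group G]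

/-- The member exchanging two members with product of odd order. -/
noncomputable def mid (a b : G) : G := (a * b) ^ (orderOf (a * b) / 2) * a

/-- An equivalence on a class of root involutions containing commutation, not total. -/
structure Blocks (D : Set G) (R : G → G → Prop) : Prop where
  hD : Cfsg.IsRootInvolutionSet D
  cl : ∀ a ∈ D, ∀ b ∈ D, ∃ g, b = g * a * g⁻¹
  symm : ∀ {a b}, a ∈ D → b ∈ D → R a b → R b a
  trans : ∀ {a b c}, a ∈ D → b ∈ D → c ∈ D → R a b → R b c → R a c
  conj : ∀ {a b}, a ∈ D → b ∈ D → R a b → ∀ g : G, R (g * a * g⁻¹) (g * b * g⁻¹)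
  comm : ∀ {a b}, a ∈ D → b ∈ D → Commute a b → R a b
  ex : ∃ a ∈ D, ∃ e ∈ D, ¬ R a e

/-- The block of a member. -/
def cls (D : Set G) (R : G → G → Prop) (a : G) : Set G := {b | b ∈ D ∧ R a b}

/-- Some two commuting members have their product in `D`. -/
def HasLine (D : Set G) : Prop := ∃ a ∈ D, ∃ b, b ∈ Cfsg.productPartners D a

/-- Some two members have product of order four. -/
def HasFour (D : Set G) : Prop := ∃ a ∈ D, ∃ b ∈ D, orderOf (a * b) = 4

/-- All blocks have odd size. -/
def OddBlocks (D : Set G) (R : G → G → Prop) : Prop := ∀ a ∈ D, Odd (cls D R a).ncard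

section Root

variable {D : Set G} (hD : Cfsg.IsRootInvolutionSet D)
include hD

theorem conj_self (g : G) {d : G} (hd : d ∈ D) : g * d * g⁻¹ ∈ D := hD.conj_mem d hd g

theorem conj_mem2 {d e : G} (hd : d ∈ D) (he : e ∈ D) : d * e * d ∈ D := by
  have := hD.conj_mem e he d
  rwa [RootInvolutions.inv_self hD hd] at this

theorem not_comm_of_adj {a b : G} (h : Cfsg.OddAdj D a b) : ¬ Commute a b := fun hc =>
  RootInv12.not_adj_of_commute hD hc h

theorem mem_oddPartners {a b : G} (h : Cfsg.OddAdj D a b) : b ∈ Cfsg.oddPartners D a :=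
  ⟨h.2.1, h.2.2.1.symm, h.2.2.2⟩

theorem adj_of_mem {a b : G} (ha : a ∈ D) (h : b ∈ Cfsg.oddPartners D a) : Cfsg.OddAdj D a b :=
  ⟨ha, h.1, h.2.1.symm, h.2.2⟩

/-- The commutator case: adjacency, equality or product of order dividing four. -/
theorem trichotomy {a b : G} (ha : a ∈ D) (hb : b ∈ D) :
    Commute a b ∨ Cfsg.OddAdj D a b ∨ (orderOf (a * b) = 4 ∧ (a * b) ^ 2 ∈ D) := by
  by_cases h : Cfsg.OddAdj D a b
  · exact Or.inr (Or.inl h)
  by_cases hc : Commute a b
  · exact Or.inl hc
  exact Or.inr (Or.inr (RootInv12.four_of_not_adj hD ha hb h hc))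

/-- Parity: no commuting involution turns a member into one adjacent to the same member. -/
theorem parity {a e u : G} (hadj : Cfsg.OddAdj D a e) (hau : a * u ∈ D) (hua : Commute u a)
    (hue : Commute u e) (hu : u * u = 1) : u = 1 :=
  RootInv.parity hD hadj.1 (mem_oddPartners hD hadj) hau hua.eq hue.eq hu

/-- A member commuting with both ends of an odd pair is a product partner of neither. -/
theorem not_line_of_common {a e u : G} (hadj : Cfsg.OddAdj D a e) (hu : u ∈ D) (hua : Commute u a)
    (hue : Commute u e) : a * u ∉ D := fun h =>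
  RootInvolutions.ne_one hD hu (parity hD hadj h hua hue (RootInvolutions.mul_self hD hu))

theorem sq_facts {a b : G} (ha : a ∈ D) (hb : b ∈ D) (h4 : orderOf (a * b) = 4)
    (hg : (a * b) ^ 2 ∈ D) :
    Commute ((a * b) ^ 2) a ∧ Commute ((a * b) ^ 2) b ∧
      (a * b) ^ 2 ∈ Cfsg.productPartners D a ∧ (a * b) ^ 2 ∈ Cfsg.productPartners D b := by
  have h1 := RootInvolutions.sq_mem_productPartners hD ha hb h4 hg
  have h4' : orderOf (b * a) = 4 := by rw [RootInv.orderOf_comm hD ha hb]; exact h4
  have e := RootInv.four_symm hD ha hb h4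
  have h2 := RootInvolutions.sq_mem_productPartners hD hb ha h4' (e ▸ hg)
  rw [e] at h2
  exact ⟨h1.1.2.1, h2.1.2.1, h1, h2⟩

theorem line_symm {a b : G} (ha : a ∈ D) (hb : b ∈ Cfsg.productPartners D a) :
    a ∈ Cfsg.productPartners D b :=
  RootInvolutions.productPartners_symm hD ha hb

theorem line_third {a b : G} (ha : a ∈ D) (hb : b ∈ Cfsg.productPartners D a) :
    b * a ∈ Cfsg.productPartners D a := by
  refine ⟨⟨hb.2, ?_, fun e => RootInvolutions.ne_one hD hb.1.1 (mul_eq_right.mp e)⟩, ?_⟩
  · rw [mul_assoc, RootInvolutions.mul_self hD ha, mul_one, ← mul_assoc, ← hb.1.2.1, mul_assoc,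
      RootInvolutions.mul_self hD ha, mul_one]
  · rw [mul_assoc, RootInvolutions.mul_self hD ha, mul_one]; exact hb.1.1

theorem mid_pow {a b : G} (h : Cfsg.OddAdj D a b) :
    ∃ m : ℕ, orderOf (a * b) = 2 * m + 1 ∧ mid a b = (a * b) ^ m * a := by
  obtain ⟨m, hm⟩ := h.2.2.2
  exact ⟨m, hm, by rw [mid, hm, show (2 * m + 1) / 2 = m by omega]⟩

theorem flip_pow {a b : G} (ha : a ∈ D) (hb : b ∈ D) (k : ℕ) :
    a * (a * b) ^ k = ((a * b) ^ k)⁻¹ * a := by
  induction k with
  | zero => simp
  | succ k ih =>
    rw [pow_succ, ← mul_assoc, ih, mul_assoc _ a, ← mul_assoc a a b, RootInvolutions.mul_self hD ha,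
      one_mul, mul_inv_rev, mul_inv_rev, RootInvolutions.inv_self hD ha,
      RootInvolutions.inv_self hD hb]
    rw [← inv_pow, mul_inv_rev, RootInvolutions.inv_self hD ha, RootInvolutions.inv_self hD hb]
    calc (b * a) ^ k * b = (b * a) ^ k * (b * a) * a := by
          rw [mul_assoc, mul_assoc b a a, RootInvolutions.mul_self hD ha, mul_one]
      _ = b * a * (b * a) ^ k * a := by rw [← pow_succ, ← pow_succ']

/-- The midpoint of an odd pair. -/
theorem mid_spec {a b : G} (h : Cfsg.OddAdj D a b) :
    mid a b ∈ D ∧ mid a b * a * mid a b = b ∧ Cfsg.OddAdj D a (mid a b) ∧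
      ∀ c, Commute c a → Commute c b → Commute c (mid a b) := by
  obtain ⟨m, hm, hs⟩ := mid_pow hD h
  have ha := h.1
  have hb := h.2.1
  have haa := RootInvolutions.mul_self hD ha
  set z := a * b with hz
  have hz1 : z ^ (2 * m + 1) = 1 := by rw [← hm]; exact pow_orderOf_eq_one z
  have hflip : ∀ k : ℕ, a * z ^ k = (z ^ k)⁻¹ * a := fun k => flip_pow hD ha hb k
  have hflip' : ∀ k : ℕ, z ^ k * a = a * (z ^ k)⁻¹ := fun k => by
    calc z ^ k * a = a * (a * z ^ k) * a := by rw [← mul_assoc, haa, one_mul]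
      _ = a * (z ^ k)⁻¹ := by rw [hflip k, mul_assoc, mul_assoc, haa, mul_one]
  have hsD : mid a b ∈ D := by
    have e : mid a b = z ^ (m * (m + 1)) * a * (z ^ (m * (m + 1)))⁻¹ := by
      rw [hs, mul_assoc (z ^ (m * (m + 1))), ← hflip', ← mul_assoc, ← pow_add,
        show m * (m + 1) + m * (m + 1) = (2 * m + 1) * m + m by ring, pow_add, pow_mul, hz1,
        one_pow, one_mul]
    rw [e]
    exact hD.conj_mem a ha _
  have hsab : mid a b * a * mid a b = b := by
    rw [hs, mul_assoc (z ^ m) a a, haa, mul_one, ← mul_assoc, ← pow_add]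
    have e : z ^ (m + m) = z⁻¹ :=
      eq_inv_of_mul_eq_one_left (by rw [← pow_succ, show m + m + 1 = 2 * m + 1 by omega, hz1])
    rw [e, hz, mul_inv_rev, RootInvolutions.inv_self hD ha, RootInvolutions.inv_self hD hb,
      mul_assoc, haa, mul_one]
  have hne : a ≠ mid a b := fun e => h.2.2.1 (by
    rw [← e] at hsab
    rwa [haa, one_mul] at hsab)
  have hodd : Odd (orderOf (a * mid a b)) := by
    have e : a * mid a b = (z ^ m)⁻¹ := by
      rw [hs, ← mul_assoc, hflip, mul_assoc, haa, mul_one]
    rw [e, orderOf_inv]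
    exact Odd.of_dvd_nat ⟨m, hm⟩ (orderOf_pow_dvd m)
  refine ⟨hsD, hsab, ⟨ha, hsD, hne, hodd⟩, fun c hca hcb => ?_⟩
  rw [hs]
  exact ((hca.mul_right hcb).pow_right m).mul_right hca

/-- Midpoints are unique. -/
theorem mid_unique {a s t : G} (hs : Cfsg.OddAdj D a s) (ht : Cfsg.OddAdj D a t)
    (h : s * a * s = t * a * t) : s = t := by
  have ss := RootInvolutions.mul_self hD hs.2.1
  have tt := RootInvolutions.mul_self hD ht.2.1
  have aa := RootInvolutions.mul_self hD hs.1
  set e := s * a * s with he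
  set u := t * s with hu
  have hua : Commute u a := by
    show t * s * a = a * (t * s)
    have h1 : t * e * t = a := by
      rw [h]
      calc t * (t * a * t) * t = (t * t) * a * (t * t) := by simp only [mul_assoc]
        _ = a := by rw [tt, one_mul, mul_one]
    calc t * s * a = t * (s * a * s) * s := by simp only [mul_assoc, ss, mul_one]
      _ = t * e * t * (t * s) := by
          rw [← he]; simp only [mul_assoc]; rw [← mul_assoc t t s, tt, one_mul]
      _ = a * (t * s) := by rw [h1]
  have hue : Commute u e := by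
    show t * s * (s * a * s) = s * a * s * (t * s)
    have h2 : t * a = e * t := by rw [h, mul_assoc (t * a), tt, mul_one]
    calc t * s * (s * a * s) = t * a * s := by
          simp only [mul_assoc]; rw [← mul_assoc s s, ss, one_mul]
      _ = e * (t * s) := by rw [h2, mul_assoc]
      _ = s * a * s * (t * s) := rfl
  have hsq : Commute u ((a * s) ^ 2) := by
    have e2 : (a * s) ^ 2 = a * e := by rw [sq, he]; simp only [mul_assoc]
    rw [e2]
    exact hua.mul_right hue
  obtain ⟨k, hk⟩ := hs.2.2.2
  have hr : Commute u (a * s) := by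
    have := hsq.pow_right (k + 1)
    rwa [← pow_mul, show 2 * (k + 1) = orderOf (a * s) + 1 by omega, pow_succ, pow_orderOf_eq_one,
      one_mul] at this
  have hus : Commute u s := by
    have := hua.mul_right hr
    rwa [← mul_assoc, aa, one_mul] at this
  have hst : s * t = t * s := by
    have h3 : t * s * s = s * (t * s) := hus.eq
    rw [mul_assoc, ss, mul_one] at h3
    calc s * t = s * (s * (t * s)) := by rw [← h3]
      _ = t * s := by rw [← mul_assoc, ss, one_mul]
  have hsu : s * u = t := by rw [hu, ← hst, ← mul_assoc, ss, one_mul]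
  have h1 : u = 1 := parity hD (RootInvolutions.adj_symm hD hs) (by rw [hsu]; exact ht.2.1) hus
    hua (by
      rw [hu, mul_assoc, ← mul_assoc s t s, hst, mul_assoc t s s, ss, mul_one, tt])
  rw [← hsu, h1, mul_one]

theorem mid_eq {a s b : G} (hs : Cfsg.OddAdj D a s) (h : Cfsg.OddAdj D a b)
    (e : s * a * s = b) : s = mid a b :=
  mid_unique hD hs (mid_spec hD h).2.2.1 (by rw [e, (mid_spec hD h).2.1])

end Root

namespace Blocks

variable {D : Set G} {R : G → G → Prop} (h : Blocks D R)
include h

theorem self {a : G} (ha : a ∈ D) : R a a := h.comm ha ha (Commute.refl a)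

theorem of_four {a b : G} (ha : a ∈ D) (hb : b ∈ D) (h4 : orderOf (a * b) = 4)
    (hg : (a * b) ^ 2 ∈ D) : R a b := by
  obtain ⟨ca, cb, -, -⟩ := sq_facts h.hD ha hb h4 hg
  exact h.trans ha hg hb (h.comm ha hg ca.symm) (h.comm hg hb cb)

theorem adj_of_not {a b : G} (ha : a ∈ D) (hb : b ∈ D) (hn : ¬ R a b) : Cfsg.OddAdj D a b := by
  rcases trichotomy h.hD ha hb with hc | ho | ⟨h4, hg⟩
  · exact absurd (h.comm ha hb hc) hn
  · exact ho
  · exact absurd (h.of_four ha hb h4 hg) hn

theorem exists_not {a : G} (ha : a ∈ D) : ∃ e ∈ D, ¬ R a e := by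
  obtain ⟨b, hb, e, he, hn⟩ := h.ex
  by_contra hall
  push Not at hall
  exact hn (h.trans hb ha he (h.symm ha hb (hall b hb)) (hall e he))

theorem conn : Cfsg.IsConnectedSet (Cfsg.OddAdj D) D := by
  intro a ha b hb
  by_cases hab : R a b
  · obtain ⟨e, he, hn⟩ := h.exists_not ha
    have hbe : ¬ R b e := fun hbe => hn (h.trans ha hb he hab hbe)
    exact (Relation.ReflTransGen.single (h.adj_of_not ha he hn)).tail
      (RootInvolutions.adj_symm h.hD (h.adj_of_not hb he hbe))
  · exact Relation.ReflTransGen.single (h.adj_of_not ha hb hab)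

theorem rel_conj_iff {a b : G} (ha : a ∈ D) (hb : b ∈ D) (g : G) :
    R (g * a * g⁻¹) (g * b * g⁻¹) ↔ R a b := by
  refine ⟨fun hr => ?_, fun hr => h.conj ha hb hr g⟩
  have := h.conj (conj_self h.hD g ha) (conj_self h.hD g hb) hr g⁻¹
  simpa [mul_assoc] using this

/-- A member fixes only its own block. -/
theorem own {a d : G} (ha : a ∈ D) (hd : d ∈ D) (hr : R a (d * a * d)) : R a d := by
  by_contra hn
  have hadj := h.adj_of_not ha hd hn
  have hdd := RootInvolutions.mul_self h.hD hd
  set b := d * a * d with hb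
  have hbD : b ∈ D := conj_mem2 h.hD hd ha
  have hK : ∀ g ∈ Subgroup.closure ({a, b} : Set G), ∀ c ∈ D, R a c → R a (g * c * g⁻¹) := by
    intro g hg
    induction hg using Subgroup.closure_induction'' with
    | mem y hy =>
      have hyD : y ∈ D := by rcases hy with rfl | rfl <;> assumption
      have hay : R a y := by
        rcases hy with rfl | rfl
        · exact h.self ha
        · exact hr
      intro c hc hac
      have h1 := h.conj hyD hc (h.trans hyD ha hc (h.symm ha hyD hay) hac) y
      rw [mul_inv_cancel_right] at h1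
      exact h.trans ha hyD (conj_self h.hD y hc) hay h1
    | inv_mem y hy =>
      have hyD : y ∈ D := by rcases hy with rfl | rfl <;> assumption
      have hay : R a y := by
        rcases hy with rfl | rfl
        · exact h.self ha
        · exact hr
      intro c hc hac
      rw [RootInvolutions.inv_self h.hD hyD]
      have h1 := h.conj hyD hc (h.trans hyD ha hc (h.symm ha hyD hay) hac) y
      rw [mul_inv_cancel_right] at h1
      exact h.trans ha hyD (conj_self h.hD y hc) hay h1
    | one => intro c _ hac; simpa using hac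
    | mul p q _ _ ihp ihq =>
      intro c hc hac
      rw [← RootInv12.conj_conj]
      exact ihp _ (conj_self h.hD q hc) (ihq c hc hac)
  obtain ⟨g, hg, hgd⟩ := RootInv.exists_conj_of_odd h.hD ha (mem_oddPartners h.hD hadj)
  have hle : Subgroup.closure ({a, d} : Set G) ≤ Subgroup.closure ({a, b} : Set G) := by
    rw [Subgroup.closure_le]
    rintro y (rfl | rfl)
    · exact Subgroup.subset_closure (Or.inl rfl)
    · obtain ⟨k, hk⟩ := hadj.2.2.2
      have e : (a * y) ^ 2 = a * b := by rw [sq, hb]; simp only [mul_assoc]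
      have h1 : a * y ∈ Subgroup.closure ({a, b} : Set G) := by
        have h2 : (a * b) ^ (k + 1) = a * y := by
          rw [← e, ← pow_mul, show 2 * (k + 1) = orderOf (a * y) + 1 by omega, pow_succ,
            pow_orderOf_eq_one, one_mul]
        rw [← h2]
        have hmA : a ∈ Subgroup.closure ({a, b} : Set G) := Subgroup.subset_closure (Or.inl rfl)
        have hmB : b ∈ Subgroup.closure ({a, b} : Set G) := Subgroup.subset_closure (Or.inr rfl)
        exact pow_mem (mul_mem hmA hmB) _
      have := mul_mem (show a ∈ Subgroup.closure ({a, b} : Set G) from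
        Subgroup.subset_closure (Or.inl rfl)) h1
      rwa [← mul_assoc, RootInvolutions.mul_self h.hD ha, one_mul] at this
  have := hK g (hle hg) a ha (h.self ha)
  rw [← hgd] at this
  exact hn this

/-- Every member moves every other block. -/
theorem moves {a e : G} (ha : a ∈ D) (he : e ∈ D) (hn : ¬ R a e) : ¬ R e (a * e * a) :=
  fun hr => hn (h.symm he ha (h.own he ha hr))

/-- Two related members never induce the same on a member outside their block. -/
theorem key {a b e : G} (ha : a ∈ D) (hb : b ∈ D) (he : e ∈ D) (hab : R a b) (hne : a ≠ b)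
    (hn : ¬ R a e) : ¬ Commute e (a * b) := by
  intro hc
  have hnb : ¬ R b e := fun hbe => hn (h.trans ha hb he hab hbe)
  refine hne (mid_unique h.hD (RootInvolutions.adj_symm h.hD (h.adj_of_not ha he hn))
    (RootInvolutions.adj_symm h.hD (h.adj_of_not hb he hnb)) ?_)
  calc a * e * a = a * (e * (a * b)) * b := by
        simp only [mul_assoc]; rw [RootInvolutions.mul_self h.hD hb, mul_one]
    _ = a * (a * b * e) * b := by rw [hc.eq]
    _ = b * e * b := by
        simp only [mul_assoc]; rw [← mul_assoc a a, RootInvolutions.mul_self h.hD ha, one_mul]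

/-- A member commuting with the product of two related members is in their block. -/
theorem rel_of_commute_mul {a b e : G} (ha : a ∈ D) (hb : b ∈ D) (he : e ∈ D) (hab : R a b)
    (hne : a ≠ b) (hc : Commute e (a * b)) : R a e := by
  by_contra hn
  exact h.key ha hb he hab hne hn hc

theorem hasLine_all (hl : HasLine D) {a : G} (ha : a ∈ D) :
    ∃ b, b ∈ Cfsg.productPartners D a := by
  obtain ⟨c, hc, b, hb⟩ := hl
  obtain ⟨g, rfl⟩ := h.cl c hc a ha
  refine ⟨g * b * g⁻¹, ⟨conj_self h.hD g hb.1.1, RootInv12.commute_conj hb.1.2.1 g, fun e =>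
    hb.1.2.2 (RootInv12.conj_injective g e)⟩, ?_⟩
  rw [← RootInv12.conj_mul']
  exact conj_self h.hD g hb.2

theorem rel_cls {a b : G} (ha : a ∈ D) (hb : b ∈ D) (hab : R a b) :
    cls D R a = cls D R b :=
  Set.ext fun c => ⟨fun ⟨hc, hac⟩ => ⟨hc, h.trans hb ha hc (h.symm ha hb hab) hac⟩,
    fun ⟨hc, hbc⟩ => ⟨hc, h.trans ha hb hc hab hbc⟩⟩

theorem hasLine_of_four (hf : HasFour D) : HasLine D := by
  obtain ⟨a, ha, b, hb, h4⟩ := hf
  rcases h.hD.pair a ha b hb with hc | ho | ⟨-, hg⟩
  · exact absurd hc (RootInv.not_comm_of_four h.hD ha hb h4)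
  · rw [h4] at ho; exact absurd ho (by decide)
  · exact ⟨a, ha, _, (sq_facts h.hD ha hb h4 hg).2.2.1⟩

/-- If two related members do not commute then every member has an adjacent related member. -/
theorem exists_adj_rel [Finite G] (hnc : ∃ a ∈ D, ∃ b ∈ D, R a b ∧ ¬ Commute a b) :
    ∀ a ∈ D, ∃ y ∈ D, R a y ∧ Cfsg.OddAdj D a y := by
  intro a ha
  obtain ⟨c, hc, f, hf, hcf, hncf⟩ := hnc
  suffices ∃ c' ∈ D, ∃ y ∈ D, R c' y ∧ Cfsg.OddAdj D c' y by
    obtain ⟨c', hc', y, hy, hr, hadj⟩ := this
    obtain ⟨g, rfl⟩ := h.cl c' hc' a ha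
    exact ⟨g * y * g⁻¹, conj_self h.hD g hy, h.conj hc' hy hr g, RootInv12.adj_conj h.hD hadj g⟩
  rcases trichotomy h.hD hc hf with hcm | ho | ⟨h4, hg⟩
  · exact absurd hcm hncf
  · exact ⟨c, hc, f, hf, hcf, ho⟩
  · obtain ⟨hgc, hgf, hgP, -⟩ := sq_facts h.hD hc hf h4 hg
    have hE : (c * f) ^ 2 ∉ Cfsg.sameCommutingClass D c := fun hE => by
      have h1 : f ∈ Cfsg.commutingMembers D c := by
        rw [hE.2]; exact ⟨hf, hgf.symm.eq⟩
      exact hncf (show Commute f c from h1.2).symm
    have hne : Cfsg.commutingMembers D c ≠ Cfsg.commutingMembers D ((c * f) ^ 2) :=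
      fun e => hE ⟨hg, e⟩
    obtain ⟨p, hp, hpn⟩ := RootInv.exists_odd_outside h.hD h.conn hc hgP hne
    obtain ⟨t, ht, ht4, htb⟩ := RootInv.exists_mover h.hD hc hp hgP
      (RootInv.four_of_not_odd h.hD hc hgP hp hpn).1
    -- now an element of order three
    set b := (c * f) ^ 2 with hbdef
    have hbt : t ∈ Cfsg.productPartners D b := by
      have h4' : orderOf (t * c) = 4 := by rw [RootInv.orderOf_comm h.hD hc ht]; exact ht4
      have hm := RootInvolutions.sq_mem_productPartners h.hD ht hc h4'
        (by rw [RootInv.four_symm h.hD hc ht ht4, htb]; exact hg)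
      rw [RootInv.four_symm h.hD hc ht ht4, htb] at hm
      exact RootInvolutions.productPartners_symm h.hD ht hm
    have hne2 : Cfsg.commutingMembers D b ≠ Cfsg.commutingMembers D t := fun e => by
      have h1 : c ∈ Cfsg.commutingMembers D b := ⟨hc, hgc.symm.eq⟩
      rw [e] at h1
      exact RootInv.not_comm_of_four h.hD hc ht ht4 h1.2
    obtain ⟨q, hq, hqn⟩ := RootInv.exists_odd_outside h.hD h.conn hg hbt hne2
    obtain ⟨x, hx, hbx, -, hxa⟩ := RootInv.exists_order_three h.hD hc ht ht4 htb hg hq
      (RootInv.four_of_not_odd h.hD hg hbt hq hqn).1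
    have hgx : (b * x) ^ 2 ∈ D := by
      rcases trichotomy h.hD hg hx with hcm | ho | ⟨-, hgx⟩
      · exact absurd hcm.eq (RootInv.not_comm_of_four h.hD hg hx hbx)
      · have := ho.2.2.2; rw [hbx] at this; exact absurd this (by decide)
      · exact hgx
    exact ⟨c, hc, x, hx, h.trans hc hg hx (h.comm hc hg hgc.symm) (h.of_four hg hx hbx hgx),
      adj_of_mem h.hD hc hxa⟩

end Blocks

end Cfsg.Agent.Lib.RootBlocks41
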