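import Cfsg.Agent.Lib.RootBlocks41.Crit

/-!
# A critical class: no lineful bad involution, all commuting pairs are lines
-/

set_option autoImplicit false
set_option linter.unusedSectionVars false

namespace Cfsg.Agent.Lib.RootBlocks41

open Cfsg.Agent.Lib.Elem70

variable {G : Type*} [Group G] {D : Set G} {R : G → G → Prop}

theorem mul_self_of_commute (hD : Cfsg.IsRootInvolutionSet D) {a b : G} (ha : a ∈ D) (hb : b ∈ D)
    (hc : Commute a b) : a * b * (a * b) = 1 := by
  calc a * b * (a * b) = a * (b * a) * b := by simp only [mul_assoc]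
    _ = a * (a * b) * b := by rw [hc.eq]
    _ = 1 := by
      rw [← mul_assoc a a b, RootInvolutions.mul_self hD ha, one_mul,
        RootInvolutions.mul_self hD hb]

theorem mul_ne_one' (hD : Cfsg.IsRootInvolutionSet D) {a b : G} (hb : b ∈ D) (hne : a ≠ b) :
    a * b ≠ 1 := fun e => hne (by
  rw [eq_inv_of_mul_eq_one_left e, RootInvolutions.inv_self hD hb])

namespace Crit

variable [Finite G] (c : Crit D R)
include c

theorem not_lineful {v : G} (hv : Bad D R v) : ¬ Lineful D v := by
  intro hl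
  obtain ⟨a, ha, -⟩ := id hl
  have h := c.blocks
  have hD := h.hD
  have hvi := inv_of_mul_self hv.1
  obtain ⟨y, hy, hay, hadj⟩ := h.exists_adj_rel c.nc a ha.1
  have hyv : ¬ Commute y v := fun hc =>
    not_comm_of_adj hD hadj (c.ih v hv hl a ha y ⟨hy, hc⟩ hay)
  set y' := v * y * v⁻¹ with hy'
  have hy'D : y' ∈ D := conj_self hD v hy
  have hne : y ≠ y' := fun e => hyv (commute_of_conj_eq (hy' ▸ e.symm))
  have hay' : R a y' := by
    have := h.conj ha.1 hy hay v
    rwa [conj_eq_of_commute ha.2] at this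
  have hyy' : R y y' := h.trans hy ha.1 hy'D (h.symm ha.1 hy hay) hay'
  have hback : v * y' * v⁻¹ = y := by rw [hy', RootInv12.conj_conj, hv.1]; simp
  have hpar : ∀ g ∈ D, Commute g y → Commute g v → y * g ∈ D → False := by
    intro g hg hgy hgv hyg
    have hga : Commute g a := (c.ih v hv hl a ha g ⟨hg, hgv⟩
      (h.trans ha.1 hy hg hay (h.comm hy hg hgy.symm))).symm
    exact RootInvolutions.ne_one hD hg (parity hD (RootInvolutions.adj_symm hD hadj) hyg hgy hga
      (RootInvolutions.mul_self hD hg))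
  rcases trichotomy hD hy hy'D with hc | ho | ⟨h4, hg⟩
  · by_cases ht : y * y' ∈ D
    · refine hpar _ ht ((Commute.refl y).mul_left hc.symm) (commute_of_conj_eq ?_) ?_
      · rw [RootInv12.conj_mul', hback, ← hy', hc.eq]
      · rw [← mul_assoc, RootInvolutions.mul_self hD hy, one_mul]; exact hy'D
    set t := y * y' with htdef
    have htt : t * t = 1 := mul_self_of_commute hD hy hy'D hc
    have hty : Commute t y := (Commute.refl y).mul_left hc.symm
    have htv : Commute t v := commute_of_conj_eq (by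
      rw [htdef, RootInv12.conj_mul', hback, ← hy', hc.eq])
    obtain ⟨x, hx, hxv, hax⟩ := h.exists_far hv ha.1
    by_cases hR : R x (t * x * t⁻¹)
    · obtain ⟨b, hb, hxb, hbt⟩ := h.exists_fixed_rel c.odd htt hx hR
      have := h.rel_of_commute_mul hy hy'D hb hyy' hne hbt
      exact hax (h.trans ha.1 hb hx (h.trans ha.1 hy hb hay this) (h.symm hx hb hxb))
    obtain ⟨j, hj, hjt, hjx, hjc, hcen⟩ := h.exists_mid_of_moved htt hx hR
    have hvj : Commute v j := hcen v htv.symm hxv.symm
    have htj : t ≠ j := fun e => ht (e ▸ hj)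
    have hyj : R y j := h.rel_of_commute_mul hy hy'D hj hyy' hne hjt
    rcases trichotomy hD hy hj with hyjc | ho | ⟨h4, hg⟩
    · have hy'j : Commute y' j := by
        have := RootInv12.commute_conj hyjc v
        rwa [conj_eq_of_commute hvj.symm] at this
      have hb := h.bad_of_mid htt hx hj htj hjt hjx hjc
      obtain ⟨z, hz⟩ := h.hasLine_all c.line hy
      exact c.avg hy hy'D hj hc hy'j hyjc hb (triple hD hy hy'D hj hc hy'j hyjc hz)
    · exact mul_ne_one' hD hy'D hne (parity hD ho
        (show y * t ∈ D by rw [htdef, ← mul_assoc, RootInvolutions.mul_self hD hy, one_mul]; exact hy'D)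
        hty hjt.symm htt)
    · obtain ⟨hgy, hgj, hgP, -⟩ := sq_facts hD hy hj h4 hg
      refine hpar _ hg hgy (commute_of_conj_eq ?_) (hgy.eq ▸ hgP.2)
      have e : y' * j = t * (y * j) := by
        rw [← mul_assoc, htdef, mul_assoc y y' y, ← hc.eq, ← mul_assoc,
          RootInvolutions.mul_self hD hy, one_mul]
      rw [← conj_pow, RootInv12.conj_mul', conj_eq_of_commute hvj.symm, ← hy', e,
        ((hty.mul_right hjt.symm)).mul_pow, sq t, htt, one_mul]
  · obtain ⟨hrD, hrv, hyr, hrr⟩ := mid_moved hD hv.1 ho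
    rw [← hy'] at hrD hrv hyr hrr
    set r := mid y y'
    have hRr : R y r := h.own hy hrD (hrr.symm ▸ hyy')
    have hbad := h.bad_mul_member c.simple hv hrD hrv
    obtain ⟨b, hb, hrb⟩ := c.line_at hv hl (v := v) ⟨hrD, hrv⟩
    have hrvr : Commute r (v * r) := hrv.mul_right (Commute.refl r)
    have hl' : Lineful D (v * r) :=
      ⟨r, ⟨hrD, hrvr⟩, b, ⟨hb.1, hb.2.mul_right hrb.1.2.1⟩, hrb⟩
    have hyvr : Commute y (v * r) := by
      show y * (v * r) = v * r * y
      have e : r * y = y' * r := by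
        rw [← hrr, mul_assoc _ r r, RootInvolutions.mul_self hD hrD, mul_one]
      rw [mul_assoc v r y, e, hy', hvi, ← mul_assoc, ← mul_assoc, ← mul_assoc, ← mul_assoc, hv.1,
        one_mul]
    exact not_comm_of_adj hD hyr (c.ih _ hbad hl' y ⟨hy, hyvr⟩ r ⟨hrD, hrvr⟩ hRr)
  · obtain ⟨hgy, -, hgP, -⟩ := sq_facts hD hy hy'D h4 hg
    refine hpar _ hg hgy (commute_of_conj_eq ?_) (hgy.eq ▸ hgP.2)
    rw [← conj_pow, RootInv12.conj_mul', hback, ← hy', RootInv.four_symm hD hy hy'D h4]

/-- Two commuting members have their product in `D`. -/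
theorem line_of_commute {a b : G} (ha : a ∈ D) (hb : b ∈ D) (hc : Commute a b) (hne : a ≠ b) :
    a * b ∈ D := by
  by_contra ht
  have h := c.blocks
  have hD := h.hD
  set t := a * b with htdef
  have htt : t * t = 1 := mul_self_of_commute hD ha hb hc
  have ht1 : t ≠ 1 := mul_ne_one' hD hb hne
  have hta : Commute t a := (Commute.refl a).mul_left hc.symm
  obtain ⟨x, hx, hR⟩ := h.exists_moved c.simple ht1
  obtain ⟨j, hj, hjt, hjx, hjc, -⟩ := h.exists_mid_of_moved htt hx hR
  have htj : t ≠ j := fun e => ht (e ▸ hj)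
  have haj : R a j := h.rel_of_commute_mul ha hb hj (h.comm ha hb hc) hne hjt
  have hbad := h.bad_of_mid htt hx hj htj hjt hjx hjc
  have hb' : b = t * a := by
    rw [htdef, mul_assoc, ← hc.eq, ← mul_assoc, RootInvolutions.mul_self hD ha, one_mul]
  rcases trichotomy hD ha hj with hajc | ho | ⟨h4, hg⟩
  · have hbj : Commute b j := hb'.symm ▸ hjt.symm.mul_left hajc
    obtain ⟨z, hz⟩ := h.hasLine_all c.line ha
    exact c.not_lineful hbad (triple hD ha hb hj hc hbj hajc hz)
  · exact ht1 (parity hD ho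
      (show a * t ∈ D by rw [htdef, ← mul_assoc, RootInvolutions.mul_self hD ha, one_mul]; exact hb) hta
      hjt.symm htt)
  · obtain ⟨hga, hgj, -, hgJ⟩ := sq_facts hD ha hj h4 hg
    have hgt : Commute ((a * j) ^ 2) t := (hta.symm.mul_left hjt).pow_left 2
    exact c.not_lineful hbad ⟨j, ⟨hj, hjt.mul_right (Commute.refl j)⟩, _,
      ⟨hg, hgt.mul_right hgj⟩, hgJ⟩

end Crit

end Cfsg.Agent.Lib.RootBlocks41
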