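import Cfsg.Agent.Lib.RootBlocks41.Bad
import Cfsg.Agent.Lib.RootBlocks41.Lineful
import Cfsg.Agent.Lib.OddTransp84.Config

/-!
# Blocks without products of order four: classes of commuting members

Commuting is transitive, and in a simple group the product of two commuting members is a member,
so the classes together with the identity are subgroups and have odd size.
-/

set_option autoImplicit false
set_option linter.unusedSectionVars false

namespace Cfsg.Agent.Lib.RootBlocks41

open Cfsg.Agent.Lib.Elem70

variable {G : Type*} [Group G] [Finite G] {D : Set G} {R : G → G → Prop}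

theorem Blocks.commute_trans (h : Blocks D R) (hl : HasLine D)
    (h4 : ∀ a ∈ D, ∀ b ∈ D, orderOf (a * b) ≠ 4) {a b c : G} (ha : a ∈ D) (hb : b ∈ D)
    (hc : c ∈ D) (hab : Commute a b) (hbc : Commute b c) : Commute a c := by
  have hD := h.hD
  have hB : OddTransp84.Base D := by
    refine ⟨fun x hx => RootInvolutions.mul_self hD hx, fun x hx => RootInvolutions.ne_one hD hx,
      fun x hx y hy => conj_mem2 hD hx hy, fun x hx y hy => ?_, fun y hy => ?_, fun y hy => ?_⟩
    · rcases trichotomy hD hx hy with hc' | ho | ⟨h4', -⟩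
      · exact Or.inl hc'
      · exact Or.inr ho.2.2.2
      · exact absurd h4' (h4 x hx y hy)
    · obtain ⟨z, hz⟩ := h.hasLine_all hl hy
      exact ⟨z, hz.1.1, hz.1.2.2, hz.1.2.1, by rw [← hz.1.2.1]; exact hz.2⟩
    · obtain ⟨e, he, hn⟩ := h.exists_not hy
      exact ⟨e, he, fun hc' => hn (h.comm hy he hc'.symm)⟩
  by_contra hac
  have hconn := (OddTransp84.cfg_and_conn D hB).2 ⟨a, ha, c, hc, b, hb, hab.symm, hbc, hac⟩
  obtain ⟨p, hp, q, hq, hn⟩ := h.ex
  have key : ∀ {y}, OddTransp84.Reach D p y → R p y ∧ y ∈ D := by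
    intro y hy
    induction hy with
    | refl => exact ⟨h.self hp, hp⟩
    | tail _ h2 ih => exact ⟨h.trans hp ih.2 h2.2.1 ih.1 (h.comm ih.2 h2.2.1 h2.2.2), h2.2.1⟩
  exact hn (key (hconn p hp q hq)).1

/-- Commuting as the equivalence. -/
theorem Blocks.commBlocks (h : Blocks D R) (hl : HasLine D)
    (h4 : ∀ a ∈ D, ∀ b ∈ D, orderOf (a * b) ≠ 4) : Blocks D (fun a b => Commute a b) := by
  refine ⟨h.hD, h.cl, fun _ _ hab => hab.symm,
    fun ha hb hc => h.commute_trans hl h4 ha hb hc,
    fun _ _ hab g => RootInv12.commute_conj hab g, fun _ _ hab => hab, ?_⟩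
  obtain ⟨p, hp, q, hq, hn⟩ := h.ex
  exact ⟨p, hp, q, hq, fun hc => hn (h.comm hp hq hc)⟩

/-- In a simple group commuting members multiply into the class. -/
theorem Blocks.mul_mem_of_cliques (h : Blocks D (fun a b => Commute a b)) (hs : IsSimpleGroup G)
    {a b : G} (ha : a ∈ D) (hb : b ∈ D) (hc : Commute a b) (hne : a ≠ b) : a * b ∈ D := by
  by_contra ht
  have hD := h.hD
  set t := a * b with htdef
  have htt : t * t = 1 := mul_self_of_commute hD ha hb hc
  obtain ⟨x, hx, hm⟩ := h.exists_moved hs (mul_ne_one' hD hb hne : t ≠ 1)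
  obtain ⟨j, hj, hjt, hjx, hjc, -⟩ := h.exists_mid_of_moved htt hx hm
  have haj : Commute a j := h.rel_of_commute_mul ha hb hj hc hne hjt
  have hbj : Commute b j := h.trans hb ha hj hc.symm haj
  have hbad := h.bad_of_mid htt hx hj (fun e => ht (e ▸ hj)) hjt hjx hjc
  have hai : Commute a (t * j) := ((Commute.refl a).mul_right hc).mul_right haj
  have hbad1 := h.bad_mul_member hs hbad ha hai
  have hbi : Commute b (t * j * a) :=
    ((hc.symm.mul_right (Commute.refl b)).mul_right hbj).mul_right hc.symm
  have hbad2 := h.bad_mul_member hs hbad1 hb hbi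
  refine h.bad_not_mem hbad2 ?_
  have e : t * j * a * b = j := by
    have hjt' : Commute t j := hjt.symm
    rw [mul_assoc (t * j), ← htdef, hjt'.eq, mul_assoc, htt, mul_one]
  rw [e]; exact hj

/-- The classes are subgroups without the identity, so of odd size. -/
theorem Blocks.oddBlocks_of_cliques (h : Blocks D (fun a b => Commute a b))
    (hs : IsSimpleGroup G) : OddBlocks D (fun a b => Commute a b) := by
  intro a ha
  have hD := h.hD
  let E : Subgroup G :=
    { carrier := insert 1 (cls D (fun a b => Commute a b) a)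
      one_mem' := Or.inl rfl
      mul_mem' := fun {x y} hx hy => by
        rcases hx with rfl | hx
        · simpa using hy
        rcases hy with rfl | hy
        · simpa using Or.inr hx
        by_cases hxy : x = y
        · exact Or.inl (by rw [hxy]; exact RootInvolutions.mul_self hD hy.1)
        · exact Or.inr ⟨h.mul_mem_of_cliques hs hx.1 hy.1
            (h.trans hx.1 ha hy.1 hx.2.symm hy.2) hxy, hx.2.mul_right hy.2⟩
      inv_mem' := fun {x} hx => by
        rcases hx with rfl | hx
        · simp
        · rw [RootInvolutions.inv_self hD hx.1]; exact Or.inr hx }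
  have hcard : Nat.card E = (cls D (fun a b => Commute a b) a).ncard + 1 := by
    have h1 : (1 : G) ∉ cls D (fun a b => Commute a b) a := fun h1 =>
      RootInvolutions.ne_one hD h1.1 rfl
    rw [← Set.ncard_insert_of_notMem h1 (Set.toFinite _)]
    exact Nat.card_coe_set_eq _
  have haE : a ∈ E := Or.inr ⟨ha, Commute.refl a⟩
  have h2 : 2 ∣ Nat.card E := by
    rw [← hD.orderOf_eq a ha, ← Subgroup.orderOf_mk a haE]
    exact orderOf_dvd_natCard _
  rw [hcard, ← even_iff_two_dvd, Nat.even_add_one, Nat.not_even_iff_odd] at h2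
  exact h2

end Cfsg.Agent.Lib.RootBlocks41
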