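import Cfsg.Agent.Lib.RootBlocks41.NonDeg.Main
import Cfsg.Agent.S5045

/-!
# A non-degenerate class is connected along lines
-/

set_option autoImplicit false
set_option linter.unusedSectionVars false

namespace Cfsg.Agent.Lib.RootBlocks41

open Cfsg.Agent.Lib.Elem70

universe u

variable {G : Type u} [Group G] {D : Set G}

/-- A non-degenerate class. -/
structure NDClass (D : Set G) : Prop where
  hD : Cfsg.IsRootInvolutionSet D
  cl : ∀ a ∈ D, ∀ b ∈ D, ∃ g, b = g * a * g⁻¹
  odd : ∃ a ∈ D, ∃ b ∈ D, a ≠ b ∧ Odd (orderOf (a * b))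
  four : HasFour D

theorem ndClass_of (hD : Cfsg.IsNondegenerateRootInvolutionSet D)
    (hcl : Cfsg.IsRootInvolutionClass D) : NDClass D :=
  ⟨hD.1, hcl.2.2, hD.2.2.1, hD.2.2.2⟩

namespace NDClass

variable [Finite G] (h : NDClass D)
include h

theorem exists_adj {a : G} (ha : a ∈ D) : ∃ b, Cfsg.OddAdj D a b := by
  obtain ⟨p, hp, q, hq, hne, ho⟩ := h.odd
  obtain ⟨g, rfl⟩ := h.cl p hp a ha
  exact ⟨g * q * g⁻¹, RootInv12.adj_conj h.hD ⟨hp, hq, hne, ho⟩ g⟩

theorem conn : Cfsg.IsConnectedSet (Cfsg.OddAdj D) D := by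
  have hD := h.hD
  have hempty : {w | Cfsg.IsIsolatedElem (Cfsg.OddAdj D) D w} = (∅ : Set G) := by
    ext w
    simp only [Set.mem_setOf_eq, Set.mem_empty_iff_false, iff_false]
    intro hw
    obtain ⟨b, hb⟩ := h.exists_adj hw.1
    exact (hw.2 b).1 hb
  obtain ⟨-, -, -, -, hcomm, -⟩ := Cfsg.Agent.S5045.result hD
  rw [hempty, Subgroup.closure_empty] at hcomm
  have hne : ∀ a ∈ D, ∃ a' ∈ Cfsg.elemComponentOf (Cfsg.OddAdj D) D a, a' ≠ a := fun a ha => by
    obtain ⟨b, hb⟩ := h.exists_adj ha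
    exact ⟨b, ⟨hb.2.1, .single hb⟩, hb.2.2.1.symm⟩
  have hstep : ∀ d ∈ D, ∀ x ∈ D, Relation.ReflTransGen (Cfsg.OddAdj D) x (d * x * d⁻¹) := by
    intro d hd x hx
    by_cases hr : Relation.ReflTransGen (Cfsg.OddAdj D) x d
    · have h2 : Relation.ReflTransGen (Cfsg.OddAdj D) (d * x * d⁻¹) (d * d * d⁻¹) :=
        hr.lift (fun y => d * y * d⁻¹) fun p q hpq => RootInv12.adj_conj hD hpq d
      rw [mul_inv_cancel_right] at h2
      exact hr.trans (RootInvolutions.reach_symm hD h2)
    · have hc := hcomm d hd x hx (hne d hd) (hne x hx) fun e => hr (by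
        have : d ∈ Cfsg.elemComponentOf (Cfsg.OddAdj D) D x := e ▸ ⟨hd, .refl⟩
        exact this.2)
      rw [Subgroup.mem_bot, mul_inv_eq_one] at hc
      rw [hc]
  intro a ha b hb
  obtain ⟨g, rfl⟩ := h.cl a ha b hb
  have hg : g ∈ Subgroup.closure D := hD.generates.symm ▸ Subgroup.mem_top g
  suffices ∀ x ∈ D, Relation.ReflTransGen (Cfsg.OddAdj D) x (g * x * g⁻¹) from this a ha
  clear hb
  induction hg using Subgroup.closure_induction'' with
  | mem y hy => exact hstep y hy
  | inv_mem y hy => rw [RootInvolutions.inv_self hD hy]; exact hstep y hy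
  | one => intro x _; simp; exact .refl
  | mul p q _ _ ihp ihq =>
    intro x hx
    rw [← RootInv12.conj_conj]
    exact (ihq x hx).trans (ihp _ (conj_self hD q hx))

theorem commConn (hP : BenderOne.PropSplit.{u}) :
    ∀ a ∈ D, ∀ b ∈ D, Relation.ReflTransGen (Cfsg.CommAdj D) a b := by
  by_contra hno
  push Not at hno
  obtain ⟨a, ha, b, hb, hab⟩ := hno
  have hD := h.hD
  have hsymm : ∀ {x y}, Relation.ReflTransGen (Cfsg.CommAdj D) x y →
      Relation.ReflTransGen (Cfsg.CommAdj D) y x := by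
    intro x y hxy
    induction hxy with
    | refl => exact .refl
    | tail _ h2 ih =>
      exact (Relation.ReflTransGen.single ⟨h2.2.1, h2.1, h2.2.2.1.symm, h2.2.2.2.symm⟩).trans ih
  refine (Blocks.no_four hP (D := D) (R := Relation.ReflTransGen (Cfsg.CommAdj D))
    ⟨hD, h.cl, fun _ _ => hsymm, fun _ _ _ => Relation.ReflTransGen.trans, ?_, ?_,
      a, ha, b, hb, hab⟩) h.four
  · intro x y _ _ hxy g
    exact hxy.lift (fun z => g * z * g⁻¹) fun p q hpq => ⟨conj_self hD g hpq.1,
      conj_self hD g hpq.2.1, fun e => hpq.2.2.1 (RootInv12.conj_injective g e),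
      RootInv12.commute_conj hpq.2.2.2 g⟩
  · intro x y hx hy hc
    by_cases e : x = y
    · exact e ▸ .refl
    · exact .single ⟨hx, hy, e, hc⟩

theorem exists_partner {a : G} (ha : a ∈ D) : ∃ z, z ∈ Cfsg.productPartners D a := by
  obtain ⟨z, hz, -⟩ := four_in_partners h.hD h.cl h.four ha
  exact ⟨z, hz⟩

/-- Two unlinked members centralised by a third unlinked one commute, by induction. -/
theorem sub_class {x e b : G} (hx : x ∈ D) (hadj : Cfsg.OddAdj D x e) (hbD : b ∈ D)
    (hb : Commute e b) (hbx : Commute x b) (hnl : ¬ Linked D x b)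
    (ih : ∀ (W : Subgroup G) (D0 : Set W), W ≠ ⊤ → NDClass D0 → ∀ p ∈ D0, ∀ q ∈ D0, Linked D0 p q) :
    Linked D x e := by
  have hD := h.hD
  set W := Subgroup.closure ({p | Linked D x p} ∪ {e}) with hW
  have hWb : W ≤ Subgroup.centralizer {b} := by
    rw [hW, Subgroup.closure_le]
    rintro p (hp | rfl)
    · exact Subgroup.mem_centralizer_singleton_iff.mpr
        (commute_component hD hx hbD hbx.symm hnl hp).eq.symm
    · exact Subgroup.mem_centralizer_singleton_iff.mpr hb.eq
  have htop : W ≠ ⊤ := fun e' => by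
    rw [e', top_le_iff] at hWb
    obtain ⟨u, hu, h4, -⟩ := four_partner hD h.cl h.four hbD
    exact RootInv.not_comm_of_four hD hbD hu h4
      (Subgroup.mem_centralizer_singleton_iff.mp (hWb ▸ Subgroup.mem_top u)).symm
  have hxW : x ∈ W := Subgroup.subset_closure (Or.inl .refl)
  have heW : e ∈ W := Subgroup.subset_closure (Or.inr rfl)
  set D0 : Set W := {p | ∃ g : W, p = g * ⟨x, hxW⟩ * g⁻¹} with hD0
  have hD0D : ∀ p ∈ D0, (p : G) ∈ D := by
    rintro _ ⟨g, rfl⟩
    exact conj_self hD g hx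
  have hP : ∀ p, Linked D x p → ∀ hp : p ∈ W, (⟨p, hp⟩ : W) ∈ D0 := by
    intro p hxp hp
    obtain ⟨g, hg, hpg⟩ := conj_mem_gen hD h.conn hadj hxp
    have hle : Subgroup.closure (Cfsg.productPartners D x ∪ {e}) ≤ W := by
      rw [Subgroup.closure_le]
      rintro q (hq | rfl)
      · exact Subgroup.subset_closure (Or.inl (.single (prodAdj_of_line hD hx hq)))
      · exact heW
    exact ⟨⟨g, hle hg⟩, Subtype.ext hpg⟩
  have he0 : (⟨e, heW⟩ : W) ∈ D0 := by
    obtain ⟨g, hg, hge⟩ := RootInv.exists_conj_of_odd hD hx (mem_oddPartners hD hadj)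
    refine ⟨⟨g, (Subgroup.closure_le W).mpr ?_ hg⟩, Subtype.ext hge⟩
    rintro q (rfl | rfl) <;> assumption
  have hconj : ∀ p ∈ D0, ∀ g : W, g * p * g⁻¹ ∈ D0 := by
    rintro _ ⟨g', rfl⟩ g
    exact ⟨g * g', RootInv12.conj_conj g g' _⟩
  have hroot : Cfsg.IsRootInvolutionSet D0 := by
    refine ⟨fun p hp => by rw [← Subgroup.orderOf_coe]; exact hD.orderOf_eq _ (hD0D p hp), ?_,
      hconj, fun p hp q hq => ?_⟩
    · rw [eq_top_iff, ← Subgroup.closure_closure_coe_preimage, Subgroup.closure_le]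
      rintro ⟨p, hp⟩ hpmem
      rcases hpmem with hl | he'
      · exact Subgroup.subset_closure (hP p hl hp)
      · obtain rfl : p = e := he'
        exact Subgroup.subset_closure he0
    rcases hD.pair _ (hD0D p hp) _ (hD0D q hq) with hc | ho | ⟨h4, hg⟩
    · exact Or.inl (Subtype.ext hc)
    · exact Or.inr (Or.inl (by rwa [← Subgroup.orderOf_coe]))
    refine Or.inr (Or.inr ⟨by rwa [← Subgroup.orderOf_coe], ?_⟩)
    obtain ⟨g, rfl⟩ := hp
    obtain ⟨-, -, h1, -⟩ := sq_facts hD (conj_self hD (g : G) hx) (hD0D q hq) h4 hg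
    have hl : Linked D x (((g⁻¹ * (g * ⟨x, hxW⟩ * g⁻¹ * q) ^ 2 * g : W)) : G) := by
      have := linked_conj hD (Relation.ReflTransGen.single
        (prodAdj_of_line hD (conj_self hD (g : G) hx) h1)) (g : G)⁻¹
      simpa [mul_assoc] using this
    have := hconj _ (hP _ hl (SetLike.coe_mem _)) g
    rwa [Subtype.coe_eta,
      show g * (g⁻¹ * (g * ⟨x, hxW⟩ * g⁻¹ * q) ^ 2 * g) * g⁻¹ = (g * ⟨x, hxW⟩ * g⁻¹ * q) ^ 2 by
        group] at this
  have hx0 : (⟨x, hxW⟩ : W) ∈ D0 := ⟨1, by simp⟩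
  have hnd : NDClass D0 := by
    refine ⟨hroot, ?_, ⟨_, hx0, _, he0, fun e' => hadj.2.2.1 (congrArg Subtype.val e'), ?_⟩, ?_⟩
    · rintro _ ⟨g, rfl⟩ _ ⟨g', rfl⟩
      exact ⟨g' * g⁻¹, by simp [mul_assoc]⟩
    · rw [← Subgroup.orderOf_coe]; exact hadj.2.2.2
    · obtain ⟨z, hz, u, hu, h4⟩ := four_in_partners hD h.cl h.four hx
      have hzl : Linked D x z := .single (prodAdj_of_line hD hx hz)
      have hul : Linked D x u := .single (prodAdj_of_line hD hx hu)
      exact ⟨_, hP z hzl (Subgroup.subset_closure (Or.inl hzl)), _,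
        hP u hul (Subgroup.subset_closure (Or.inl hul)), by rw [← Subgroup.orderOf_coe]; exact h4⟩
  exact (ih W D0 htop hnd _ hx0 _ he0).lift Subtype.val fun p q hpq =>
    ⟨hD0D p hpq.1, hD0D q hpq.2.1, fun e' => hpq.2.2.1 (Subtype.ext e'),
      congrArg Subtype.val hpq.2.2.2.1, hD0D _ hpq.2.2.2.2⟩

end NDClass

theorem linked_aux (hP : BenderOne.PropSplit.{u}) : ∀ (n : ℕ) (G : Type u) [Group G] [Finite G]
    (D : Set G), Nat.card G = n → NDClass D → ∀ a ∈ D, ∀ b ∈ D, Linked D a b := by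
  intro n
  induction n using Nat.strong_induction_on with
  | _ n ih =>
    intro G _ _ D hn h a0 ha0 b0 hb0
    have hD := h.hD
    have hlt : ∀ W : Subgroup G, W ≠ ⊤ → Nat.card W < n := fun W hW => hn ▸
      lt_of_le_of_ne (Subgroup.card_le_card_group _) fun e => hW (Subgroup.eq_top_of_card_eq _ e)
    -- commuting or linked is transitive
    have htrans : ∀ x ∈ D, ∀ y ∈ D, ∀ z ∈ D, (Linked D x y ∨ Commute x y) →
        (Linked D y z ∨ Commute y z) → (Linked D x z ∨ Commute x z) := by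
      intro x hx y hy z hz hxy hyz
      by_cases hl : Linked D x z
      · exact Or.inl hl
      right
      by_cases hlxy : Linked D x y
      · rcases hyz with hyz | hyz
        · exact absurd (hlxy.trans hyz) hl
        · exact (commute_component hD hy hz hyz.symm (fun h' => hl (hlxy.trans h'))
            (linked_symm hD hlxy)).symm
      have hxy' : Commute x y := hxy.resolve_left hlxy
      by_cases hlyz : Linked D y z
      · exact commute_component hD hy hx hxy' (fun h' => hlxy (linked_symm hD h')) hlyz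
      have hyz' : Commute y z := hyz.resolve_left hlyz
      by_contra hxz
      rcases trichotomy hD hx hz with hc | ho | ⟨h4, hg⟩
      · exact hxz hc
      · exact hl (h.sub_class hx ho hy hyz'.symm hxy' hlxy fun W D0 hW hnd =>
          ih _ (hlt W hW) W D0 rfl hnd)
      · exact hl (linked_of_four hD hx hz h4 hg)
    have hall : ∀ x ∈ D, ∀ y ∈ D, Linked D x y ∨ Commute x y := by
      intro x hx y hy
      have key : ∀ {z}, Relation.ReflTransGen (Cfsg.CommAdj D) x z →
          z ∈ D ∧ (Linked D x z ∨ Commute x z) := by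
        intro z hz
        induction hz with
        | refl => exact ⟨hx, Or.inl .refl⟩
        | tail _ h2 ih' => exact ⟨h2.2.1, htrans x hx _ ih'.1 _ h2.2.1 ih'.2 (Or.inr h2.2.2.2)⟩
      exact (key (h.commConn hP x hx y hy)).2
    have key : ∀ {z}, Relation.ReflTransGen (Cfsg.OddAdj D) a0 z → Linked D a0 z := by
      intro z hz
      induction hz with
      | refl => exact .refl
      | tail _ h2 ih' =>
        exact ih'.trans ((hall _ h2.1 _ h2.2.1).resolve_right (not_comm_of_adj hD h2))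
    exact key (h.conn a0 ha0 b0 hb0)

/-- A non-degenerate class is connected along lines. -/
theorem NDClass.linked [Finite G] (hP : BenderOne.PropSplit.{u}) (h : NDClass D) {a b : G}
    (ha : a ∈ D) (hb : b ∈ D) : Linked D a b :=
  linked_aux hP _ G D rfl h a ha b hb

/-- Generation by the partners of a member and an odd partner. -/
theorem NDClass.generation [Finite G] (hP : BenderOne.PropSplit.{u}) (h : NDClass D) {d x : G}
    (hd : d ∈ D) (hx : x ∈ Cfsg.oddPartners D d) :
    Subgroup.closure (Cfsg.productPartners D d ∪ {x}) = ⊤ := by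
  rw [eq_top_iff, ← h.hD.generates, Subgroup.closure_le]
  intro y hy
  obtain ⟨g, hg, rfl⟩ := conj_mem_gen h.hD h.conn (adj_of_mem h.hD hd hx) (h.linked hP hd hy)
  have hdK : d ∈ Subgroup.closure (Cfsg.productPartners D d ∪ {x}) := by
    obtain ⟨z, hz⟩ := h.exists_partner hd
    have := mul_mem
      (Subgroup.subset_closure (Or.inl hz) : z ∈ Subgroup.closure (Cfsg.productPartners D d ∪ {x}))
      (Subgroup.subset_closure (Or.inl (line_third h.hD hd hz)) :
        z * d ∈ Subgroup.closure (Cfsg.productPartners D d ∪ {x}))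
    rwa [← mul_assoc, RootInvolutions.mul_self h.hD hz.1.1, one_mul] at this
  exact mul_mem (mul_mem hg hdK) (inv_mem hg)

end Cfsg.Agent.Lib.RootBlocks41
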