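import Cfsg.Agent.Lib.RootBlocks41.Lineless.NoBad
import Cfsg.Agent.Lib.BenderOne.SplitFacts

/-!
# Odd blocks with a line: related members commute
-/

set_option autoImplicit false
set_option linter.unusedSectionVars false

namespace Cfsg.Agent.Lib.RootBlocks41

open Cfsg.Agent.Lib.Elem70

universe u

variable {G : Type u} [Group G] [Finite G] {D : Set G} {R : G → G → Prop}

/-- No critical class, given Bender's theorem. -/
theorem Crit.false (hP : BenderOne.PropSplit.{u}) (c : Crit D R) : False := by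
  have h := c.blocks
  have hD := h.hD
  have hall : ∀ t : G, orderOf t = 2 → t ∈ D := by
    intro t ht
    have htt : t * t = 1 := by rw [← sq, ← ht, pow_orderOf_eq_one]
    have ht1 : t ≠ 1 := fun e => by rw [e, orderOf_one] at ht; exact absurd ht (by decide)
    by_contra hn
    obtain ⟨x, hx, hm⟩ := h.exists_moved c.simple ht1
    obtain ⟨j, hj, hjt, hjx, hjc, -⟩ := h.exists_mid_of_moved htt hx hm
    exact c.no_bad (h.bad_of_mid htt hx hj (fun e => hn (e ▸ hj)) hjt hjx hjc)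
  obtain ⟨a, ha, b, hb, hab, hnc⟩ := c.nc
  obtain ⟨e, he, hne⟩ := h.exists_not ha
  set H := h.stab ha with hH
  have hmemH : ∀ y ∈ D, y ∈ H ↔ R a y := by
    intro y hy
    rw [hH, h.mem_stab, RootInvolutions.inv_self hD hy]
    refine ⟨fun hr => h.own ha hy hr, fun hr => ?_⟩
    have := h.conj ha hy hr y
    rw [mul_inv_cancel_right, RootInvolutions.inv_self hD hy] at this
    exact h.trans ha hy (conj_mem2 hD hy ha) hr (h.symm (conj_mem2 hD hy ha) hy this)
  have htop : H ≠ ⊤ := by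
    intro e'
    obtain ⟨g, hg⟩ := h.cl a ha e he
    have hmem : g ∈ H := e'.symm ▸ Subgroup.mem_top g
    rw [hH, h.mem_stab, ← hg] at hmem
    exact hne hmem
  haveI : Fact (Nat.Prime 2) := ⟨Nat.prime_two⟩
  have hse : Cfsg.IsStronglyEmbedded H := by
    refine ⟨htop, even_iff_two_dvd.mpr ?_, fun g hg => ?_⟩
    · rw [← hD.orderOf_eq a ha, ← Subgroup.orderOf_mk a ((hmemH a ha).mpr (h.self ha))]
      exact orderOf_dvd_natCard _
    by_contra hodd
    rw [Nat.not_odd_iff_even, even_iff_two_dvd] at hodd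
    obtain ⟨x, hx⟩ := exists_prime_orderOf_dvd_card' 2 hodd
    rw [← Subgroup.orderOf_coe] at hx
    obtain ⟨hxH, y, hy, hyx⟩ := Subgroup.mem_inf.mp x.2
    have hxD := hall _ hx
    simp only [MulEquiv.coe_toMonoidHom, MulAut.conj_apply] at hyx
    have hyD : y ∈ D := by
      have := conj_self hD g⁻¹ hxD
      rwa [← hyx, RootInv12.conj_conj, inv_mul_cancel, one_mul, inv_one, mul_one] at this
    have h1 := h.conj ha hyD ((hmemH y hyD).mp hy) g
    rw [hyx] at h1
    refine hg ?_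
    rw [hH, h.mem_stab]
    exact h.trans ha hxD (conj_self hD g ha) ((hmemH _ hxD).mp hxH)
      (h.symm (conj_self hD g ha) hxD h1)
  obtain ⟨p, hp⟩ := h.hasLine_all c.line ha
  have hfour : BenderOne20.HasFour H :=
    ⟨a, (hmemH a ha).mpr (h.self ha), p, (hmemH p hp.1.1).mpr
      (h.comm ha hp.1.1 (Eq.symm hp.1.2.1)), hD.orderOf_eq a ha, hD.orderOf_eq p hp.1.1,
      hp.1.2.2.symm, hp.1.2.1.symm⟩
  have hcore : H.normalCore = ⊥ :=
    (c.simple.eq_bot_or_eq_top_of_normal H.normalCore inferInstance).resolve_right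
      fun e' => htop (eq_top_iff.mpr (e' ▸ H.normalCore_le))
  obtain ⟨Q, hQ2, hQR⟩ := hP G H hse hfour hcore
  have hQmem : ∀ y ∈ D, R a y → y ∈ Q := fun y hy hr =>
    BenderOne.mem_of_invol hse hQ2 hQR ((hmemH y hy).mpr hr) (hD.orderOf_eq y hy)
  have hQnt : Nontrivial Q := ⟨⟨⟨a, hQmem a ha (h.self ha)⟩, 1, fun e' =>
    RootInvolutions.ne_one hD ha (congrArg Subtype.val e')⟩⟩
  have hcn : Nontrivial (Subgroup.center Q) := hQ2.center_nontrivial
  obtain ⟨m, hm0, hm⟩ := (hQ2.to_subgroup _).nontrivial_iff_card.1 hcn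
  obtain ⟨z, hz⟩ := exists_prime_orderOf_dvd_card' 2
    (hm ▸ dvd_pow_self 2 (by omega) : 2 ∣ Nat.card (Subgroup.center Q))
  have hz2 : orderOf ((z : Q) : G) = 2 := by rw [Subgroup.orderOf_coe, Subgroup.orderOf_coe, hz]
  have hzD := hall _ hz2
  have haz : R a ((z : Q) : G) := (hmemH _ hzD).mp (hQR.le (z : Q).2)
  have hcen : ∀ y ∈ D, R a y → ∀ q ∈ Q, Commute y q := by
    intro y hy hr q hq
    obtain ⟨g, rfl⟩ := h.cl _ hzD y hy
    have hgH : g ∈ H := by
      rw [hH, h.mem_stab]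
      have h1 := h.conj ha hzD haz g
      exact h.trans ha hy (conj_self hD g ha) hr (h.symm (conj_self hD g ha) hy h1)
    have hq' := hQR.conj_mem g⁻¹ (inv_mem hgH) q hq
    have h1 : Commute ((z : Q) : G) (g⁻¹ * q * g⁻¹⁻¹) :=
      (congrArg Subtype.val (Subgroup.mem_center_iff.mp z.2 ⟨_, hq'⟩)).symm
    have h2 := RootInv12.commute_conj h1 g
    rwa [RootInv12.conj_conj g g⁻¹, mul_inv_cancel, one_mul, inv_one, mul_one] at h2
  exact hnc (hcen a ha (h.self ha) b (hQmem b hb hab))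

theorem related_commute_aux (hP : BenderOne.PropSplit.{u}) : ∀ (n : ℕ) (G : Type u) [Group G]
    [Finite G] (D : Set G) (R : G → G → Prop), Nat.card G = n → Blocks D R → OddBlocks D R →
      HasLine D → ∀ a ∈ D, ∀ b ∈ D, R a b → Commute a b := by
  intro n
  induction n using Nat.strong_induction_on with
  | _ n ih =>
    intro G _ _ D R hn h ho hl a ha b hb hab
    by_cases hs : IsSimpleGroup G
    · by_contra hnc
      refine Crit.false hP ⟨h, ho, hl, hs, ⟨a, ha, b, hb, hab, hnc⟩, ?_⟩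
      intro v hv hlin p hp q hq hpq
      obtain ⟨r, hr, s, hs', hrs⟩ := hlin
      have := ih _ (hn ▸ h.card_cv_lt hs hv) ↥(Subgroup.closure (Cv D v)) _ _ rfl (h.sub_cv hv)
        (h.odd_cv ho hv.1)
        ⟨⟨r, Subgroup.subset_closure hr⟩, hr, ⟨s, Subgroup.subset_closure hs'⟩,
          ⟨⟨hs', Subtype.ext hrs.1.2.1, fun e => hrs.1.2.2 (congrArg Subtype.val e)⟩,
            ⟨hrs.2, hs'.2.mul_left hr.2⟩⟩⟩
        ⟨p, Subgroup.subset_closure hp⟩ hp ⟨q, Subgroup.subset_closure hq⟩ hq hpq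
      exact congrArg Subtype.val this
    · obtain ⟨N, hN, hbot, htop⟩ : ∃ N : Subgroup G, N.Normal ∧ N ≠ ⊥ ∧ N ≠ ⊤ := by
        by_contra hno
        push Not at hno
        haveI := h.nontrivial
        exact hs ⟨fun N hN => or_iff_not_imp_left.mpr (hno N hN)⟩
      haveI := hN
      have hDN : ∀ d ∈ D, d ∉ N := fun d hd hdN => htop (h.eq_top_of_mem hd hdN)
      have hlt : Nat.card (G ⧸ N) < n := by
        rw [← hn, Subgroup.card_eq_card_quotient_mul_card_subgroup N]
        exact lt_mul_of_one_lt_right Nat.card_pos (N.one_lt_card_iff_ne_bot.mpr hbot)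
      exact h.commute_of_mk hl hDN ha hb (ih _ hlt (G ⧸ N) _ _ rfl (h.quot hl hDN)
        (h.quot_odd hl ho hDN) (h.quot_hasLine hl hDN) _ ⟨a, ha, rfl⟩ _ ⟨b, hb, rfl⟩
        ⟨a, ha, b, hb, rfl, rfl, hab⟩)

/-- With odd blocks and a line related members commute. -/
theorem Blocks.related_commute (hP : BenderOne.PropSplit.{u}) (h : Blocks D R)
    (ho : OddBlocks D R) (hl : HasLine D) {a b : G} (ha : a ∈ D) (hb : b ∈ D) (hab : R a b) :
    Commute a b :=
  related_commute_aux hP _ G D R rfl h ho hl a ha b hb hab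

end Cfsg.Agent.Lib.RootBlocks41
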