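import Cfsg.Agent.Lib.RootBlocks41.Clique
import Cfsg.Agent.Lib.RootBlocks41.NonDeg.Main
import Cfsg.Agent.Lib.RootBlocks41.Connected
import Cfsg.Agent.Lib.Crit59.Setting
import Cfsg.Agent.Lib.Crit59.Transport
import Cfsg.Agent.Lib.BenderOne.PartOne
import Cfsg.Agent.Lib.BenderSuzuki.Main
import Cfsg.Agent.Lib.BenderConsumers23.Simple
import Cfsg.Agent.S5048

/-!
# S5044 from Bender's theorem and the single fixed point criterion
-/

set_option autoImplicit false
set_option linter.unusedSectionVars false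

namespace Cfsg.Agent.Lib.RootBlocks41

open Cfsg.Agent.Lib.Elem70

universe u

variable {G : Type u} [Group G] [Finite G] {D : Set G}

/-- In a simple group with commuting classes the stabiliser of a class is strongly embedded, by
the single fixed point criterion. -/
theorem Blocks.stronglyEmbedded_of_crit (hC : Crit59.CritProp.{u})
    (h : Blocks D (fun a b => Commute a b)) (hs : IsSimpleGroup G) :
    ∃ H : Subgroup G, Cfsg.IsStronglyEmbedded H := by
  have hD := h.hD
  obtain ⟨a, ha, e, he, hne⟩ := h.ex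
  have hmem : ∀ y ∈ D, y ∈ h.stab ha ↔ Commute a y := by
    intro y hy
    rw [h.mem_stab, RootInvolutions.inv_self hD hy]
    refine ⟨fun hr => h.own ha hy hr, fun hr => ?_⟩
    have := h.conj ha hy hr y
    rw [mul_inv_cancel_right, RootInvolutions.inv_self hD hy] at this
    exact h.trans ha hy (conj_mem2 hD hy ha) hr (h.symm (conj_mem2 hD hy ha) hy this)
  have hS : Crit59.Setting (h.stab ha) D := by
    refine ⟨fun e' => ?_, fun d hd => hD.orderOf_eq d hd, fun d hd g => conj_self hD g hd,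
      fun d hd => ?_, fun d hd hdH g hgH => ?_, ?_⟩
    · obtain ⟨g, hg⟩ := h.cl a ha e he
      have hmem' : g ∈ h.stab ha := e'.symm ▸ Subgroup.mem_top g
      rw [h.mem_stab, ← hg] at hmem'
      exact hne hmem'
    · obtain ⟨g, hg⟩ := h.cl d hd a ha
      exact ⟨g, hg ▸ (hmem a ha).mpr (Commute.refl a)⟩
    · have hgd := conj_self hD g hd
      have h1 := h.conj ha hd ((hmem d hd).mp hdH) g
      rw [h.mem_stab]
      exact h.trans ha hgd (conj_self hD g ha) ((hmem _ hgd).mp hgH)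
        (h.symm (conj_self hD g ha) hgd h1)
    · have e1 : Nat.card {d : G // d ∈ D ∧ d ∈ h.stab ha} =
          (cls D (fun a b => Commute a b) a).ncard := by
        rw [← Nat.card_coe_set_eq]
        exact Nat.card_congr (Equiv.subtypeEquivRight fun d =>
          ⟨fun hd => ⟨hd.1, (hmem d hd.1).mp hd.2⟩, fun hd => ⟨hd.1, (hmem d hd.1).mpr hd.2⟩⟩)
      rw [e1]
      exact h.oddBlocks_of_cliques hs a ha
  have hP : Crit59.ProdClosed (h.stab ha) D := fun d d' hd _ hd' _ hc hd2 =>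
    h.mul_mem_of_cliques hs hd hd' hc hd2
  have hn : (Subgroup.closure D).Normal := by
    refine ⟨fun n hn g => ?_⟩
    have h1 : Subgroup.closure D ≤ (Subgroup.closure D).comap (MulAut.conj g).toMonoidHom :=
      (Subgroup.closure_le _).mpr fun d hd => Subgroup.subset_closure (conj_self hD g hd)
    exact h1 hn
  have htop : Subgroup.closure D = ⊤ := h.eq_top_of_mem ha (Subgroup.subset_closure ha)
  have hse := hC G (h.stab ha) D hS (Or.inr hP)
  rw [htop] at hse
  exact ⟨h.stab ha, Crit59.Transport.of_subgroupOf_top hse⟩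

theorem row5044 (hP : BenderOne.PropSplit.{u}) (hC : Crit59.CritProp.{u})
    (hD : Cfsg.IsRootInvolutionSet D) (hDD : (D ∩ Cfsg.commutingProducts D).Nonempty) :
    Cfsg.IsConnectedSet (Cfsg.CommAdj D) D ∨
    (∃ (F : Type) (_ : Field F) (_ : Fintype F), CharP F 2 ∧ 4 ≤ Fintype.card F ∧
      Nonempty (G ⧸ Cfsg.twoZCore G ≃* Matrix.ProjectiveSpecialLinearGroup (Fin 2) F)) ∨
    Cfsg.Lie.IsoSuzuki (G ⧸ Cfsg.twoZCore G) ∨
    (∃ (F : Type) (_ : Field F) (_ : Fintype F) (q : ℕ), CharP F 2 ∧ Fintype.card F = q ^ 2 ∧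
      4 ≤ q ∧ Nonempty (G ⧸ Cfsg.twoZCore G ≃* Cfsg.PSU 3 F q)) := by
  by_cases hcon : Cfsg.IsConnectedSet (Cfsg.CommAdj D) D
  · exact Or.inl hcon
  refine Or.inr ?_
  have hsymm : ∀ {x y}, Relation.ReflTransGen (Cfsg.CommAdj D) x y →
      Relation.ReflTransGen (Cfsg.CommAdj D) y x := by
    intro x y hxy
    induction hxy with
    | refl => exact .refl
    | tail _ h2 ih =>
      exact (Relation.ReflTransGen.single ⟨h2.2.1, h2.1, h2.2.2.1.symm, h2.2.2.2.symm⟩).trans ih
  have hcomm : ∀ {x y}, x ∈ D → y ∈ D → Commute x y →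
      Relation.ReflTransGen (Cfsg.CommAdj D) x y := by
    intro x y hx hy hc
    by_cases e : x = y
    · exact e ▸ .refl
    · exact .single ⟨hx, hy, e, hc⟩
  -- no isolated vertices, and the odd graph is connected
  have hiso : ∀ w, ¬ Cfsg.IsIsolatedElem (Cfsg.OddAdj D) D w := by
    intro w hw
    refine hcon fun a ha b hb => ?_
    have hreach : ∀ d ∈ D, Relation.ReflTransGen (Cfsg.CommAdj D) w d := by
      intro d hd
      rcases trichotomy hD hw.1 hd with hc | ho | ⟨h4, hg⟩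
      · exact hcomm hw.1 hd hc
      · exact absurd ho (hw.2 d).1
      · obtain ⟨h1, h2, -, -⟩ := sq_facts hD hw.1 hd h4 hg
        exact (hcomm hw.1 hg h1.symm).trans (hcomm hg hd h2)
    exact (hsymm (hreach a ha)).trans (hreach b hb)
  have hne : ∀ a ∈ D, ∃ a' ∈ Cfsg.elemComponentOf (Cfsg.OddAdj D) D a, a' ≠ a := fun a ha => by
    obtain ⟨b, hb⟩ : ∃ b, Cfsg.OddAdj D a b := by
      by_contra hno
      push Not at hno
      exact hiso a ⟨ha, fun b => ⟨hno b, fun h => hno b (RootInvolutions.adj_symm hD h)⟩⟩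
    exact ⟨b, ⟨hb.2.1, .single hb⟩, hb.2.2.1.symm⟩
  have hconn : Cfsg.IsConnectedSet (Cfsg.OddAdj D) D := by
    obtain ⟨-, -, -, -, hcc, -⟩ := Cfsg.Agent.S5045.result hD
    rw [show {w | Cfsg.IsIsolatedElem (Cfsg.OddAdj D) D w} = (∅ : Set G) from
      Set.eq_empty_iff_forall_notMem.mpr hiso, Subgroup.closure_empty] at hcc
    have hdiff : ∀ x ∈ D, ∀ y ∈ D, ¬ Relation.ReflTransGen (Cfsg.OddAdj D) x y →
        Relation.ReflTransGen (Cfsg.CommAdj D) x y := by
      intro x hx y hy hr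
      have hc := hcc x hx y hy (hne x hx) (hne y hy) fun e => hr
        (show y ∈ Cfsg.elemComponentOf (Cfsg.OddAdj D) D x from e ▸ ⟨hy, .refl⟩).2
      rw [Subgroup.mem_bot, mul_inv_eq_one] at hc
      exact hcomm hx hy (commute_of_conj_eq hc).symm
    intro a ha b hb
    by_contra hab
    refine hcon fun x hx y hy => ?_
    have hto : ∀ z ∈ D, Relation.ReflTransGen (Cfsg.CommAdj D) a z := by
      intro z hz
      by_cases hz' : Relation.ReflTransGen (Cfsg.OddAdj D) a z
      · have hzb : ¬ Relation.ReflTransGen (Cfsg.OddAdj D) z b := fun h' => hab (hz'.trans h')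
        exact (hdiff a ha b hb hab).trans (hsymm (hdiff z hz b hb hzb))
      · exact hdiff a ha z hz hz'
    exact (hsymm (hto x hx)).trans (hto y hy)
  have hcl := RootInv12.exists_conj_of_connected hD hconn
  have hex : ∃ a ∈ D, ∃ e ∈ D, ¬ Relation.ReflTransGen (Cfsg.CommAdj D) a e := by
    by_contra hno
    push Not at hno
    exact hcon hno
  have hB : Blocks D (Relation.ReflTransGen (Cfsg.CommAdj D)) :=
    ⟨hD, hcl, fun _ _ => hsymm, fun _ _ _ => Relation.ReflTransGen.trans,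
      fun {x y} _ _ hxy g => hxy.lift (fun z => g * z * g⁻¹) fun p q hpq =>
        ⟨conj_self hD g hpq.1, conj_self hD g hpq.2.1,
          fun e => hpq.2.2.1 (RootInv12.conj_injective g e), RootInv12.commute_conj hpq.2.2.2 g⟩,
      fun {x y} hx hy hc => hcomm hx hy hc, hex⟩
  have hl : HasLine D := by
    obtain ⟨w, hw, a, ha, b, hb, hc, h1, rfl⟩ := hDD
    refine ⟨a, ha, b, ⟨hb, hc.symm, fun e => h1 ?_⟩, ?_⟩
    · rw [e, RootInvolutions.mul_self hD ha]
    · rw [← hc]; exact hw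
  obtain ⟨hrad, hsimple⟩ := Cfsg.Agent.S5048.result hD hconn hDD
  haveI := hsimple
  set N := Cfsg.twoZCore G
  have hN : ∀ d ∈ D, d ∉ N := by
    intro d hd hdN
    have htop : N = ⊤ := hB.eq_top_of_mem hd hdN
    exact not_subsingleton (G ⧸ N) (QuotientGroup.subsingleton_iff.mpr htop)
  have hq := hB.quot hl hN
  have hql := hB.quot_hasLine hl hN
  have h4 : ∀ a ∈ (QuotientGroup.mk : G → G ⧸ N) '' D,
      ∀ b ∈ (QuotientGroup.mk : G → G ⧸ N) '' D, orderOf (a * b) ≠ 4 :=
    fun a ha b hb h4' => hq.no_four hP ⟨a, ha, b, hb, h4'⟩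
  have hcl' := hq.commBlocks hql h4
  obtain ⟨H, hH⟩ := hcl'.stronglyEmbedded_of_crit hC hsimple
  have hna : ∃ a b : G ⧸ N, a * b ≠ b * a := by
    obtain ⟨a, ha, b, hb, hab⟩ := hcl'.ex
    exact ⟨a, b, hab⟩
  obtain ⟨hT, -⟩ := BenderConsumers23.simple_case (BenderOne.propPartOne hP)
    BenderSuzuki.propMain hna hH
  rcases hT with ⟨F, i, j, n, hn, hF, e⟩ | ⟨F, i, j, m, hm, hF, e⟩ | ⟨F, i, j, n, hn, hF, e⟩
  · exact .inl ⟨F, i, j, charP_of_card_eq_prime_pow (f := n) (by rw [hF]),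
      hF ▸ (Nat.pow_le_pow_right (by norm_num : 0 < 2) hn : 2 ^ 2 ≤ 2 ^ n), e⟩
  · exact .inr (.inl ⟨F, i, j, m, hm, hF, e⟩)
  · exact .inr (.inr ⟨F, i, j, 2 ^ n, charP_of_card_eq_prime_pow (f := n * 2) (by
      rw [hF, ← pow_mul]), hF,
      (Nat.pow_le_pow_right (by norm_num) hn : 2 ^ 2 ≤ 2 ^ n), e⟩)

end Cfsg.Agent.Lib.RootBlocks41
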