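import Cfsg.Agent.Lib.RootBlocks41.Bad
import Mathlib.GroupTheory.Perm.Cycle.Type

/-!
# Transfer at a member fixed by a bad involution
-/

set_option autoImplicit false
set_option linter.unusedSectionVars false

namespace Cfsg.Agent.Lib.RootBlocks41

open Cfsg.Agent.Lib.Elem70

variable {G : Type*} [Group G] {D : Set G} {R : G → G → Prop}

/-- A fixed-point count: an involutory permutation of positive sign moves a multiple of four
points. -/
theorem moved_mod_four {X : Type*} [Fintype X] [DecidableEq X] (σ : Equiv.Perm X)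
    (h2 : σ * σ = 1) (hsign : Equiv.Perm.sign σ = 1) : σ.support.card % 4 = 0 := by
  have hmem : ∀ k ∈ σ.cycleType, k = 2 := fun k hk => by
    have h1 := (Equiv.Perm.dvd_of_mem_cycleType hk).trans
      (orderOf_dvd_of_pow_eq_one (show σ ^ 2 = 1 by rw [sq, h2]))
    exact le_antisymm (Nat.le_of_dvd (by norm_num) h1) (Equiv.Perm.two_le_of_mem_cycleType hk)
  have hrep : σ.cycleType = Multiset.replicate (Multiset.card σ.cycleType) 2 :=
    Multiset.eq_replicate_card.mpr hmem
  have hsum := σ.sum_cycleType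
  rw [Equiv.Perm.sign_of_cycleType, hrep, Multiset.sum_replicate, Multiset.card_replicate,
    smul_eq_mul] at hsign
  rw [hrep, Multiset.sum_replicate, smul_eq_mul] at hsum
  have heven : Even (Multiset.card σ.cycleType * 2 + Multiset.card σ.cycleType) := by
    by_contra hne
    rw [Nat.not_even_iff_odd] at hne
    rw [hne.neg_one_pow] at hsign
    exact absurd hsign (by decide)
  obtain ⟨k, hk⟩ := heven
  omega

namespace Blocks

variable [Finite G] (h : Blocks D R)
include h

theorem hom_trivial (hs : IsSimpleGroup G) (ψ : G →* ℤˣ) (g : G) : ψ g = 1 := by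
  rcases hs.eq_bot_or_eq_top_of_normal ψ.ker inferInstance with hk | hk
  · exfalso
    obtain ⟨x, y, hxy⟩ := h.not_commute_all hs
    refine hxy ((MonoidHom.ker_eq_bot_iff ψ).mp hk ?_)
    rw [map_mul, map_mul, mul_comm]
  · exact MonoidHom.mem_ker.mp (hk ▸ Subgroup.mem_top g)

theorem cv_conj {v a b : G} (hv : Bad D R v) (ha : a ∈ Cv D v) (hb : b ∈ Cv D v) :
    ∃ g : G, Commute g v ∧ g * a * g⁻¹ = b := by
  obtain ⟨g, hg⟩ := (h.sub_cv hv).cl ⟨a, Subgroup.subset_closure ha⟩ ha
    ⟨b, Subgroup.subset_closure hb⟩ hb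
  refine ⟨g, ?_, (congrArg Subtype.val hg).symm⟩
  have : Subgroup.closure (Cv D v) ≤ Subgroup.centralizer {v} := by
    rw [Subgroup.closure_le]
    exact fun y hy => Subgroup.mem_centralizer_singleton_iff.mpr hy.2.eq
  exact Subgroup.mem_centralizer_singleton_iff.mp (this g.2)

/-- The transfer to the centraliser of a member is trivial. -/
theorem transfer_sign {v a : G} (hs : IsSimpleGroup G) (hv : Bad D R v) (ha : a ∈ Cv D v)
    (hodd : Odd (Cv D v).ncard)
    (χ : ↥(Subgroup.centralizer ({a} : Set G)) →* ℤˣ) :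
    χ ⟨v, Subgroup.mem_centralizer_singleton_iff.mpr ha.2.eq.symm⟩ = 1 := by
  classical
  have hD := h.hD
  set X := {d : G // d ∈ D}
  letI : Fintype X := Fintype.ofFinite X
  choose gd hgd using fun d : X => h.cl a ha.1 d.1 d.2
  let act : G → X → X := fun g d => ⟨g * d.1 * g⁻¹, conj_self hD g d.2⟩
  have hact : ∀ g h d, act (g * h) d = act g (act h d) :=
    fun g h d => Subtype.ext (RootInv12.conj_conj g h d.1).symm
  have hmem : ∀ g d, (gd (act g d))⁻¹ * g * gd d ∈ Subgroup.centralizer ({a} : Set G) := by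
    intro g d
    have h1 : (gd (act g d) : G) * a * (gd (act g d))⁻¹ = g * d.1 * g⁻¹ := (hgd (act g d)).symm
    rw [hgd d] at h1
    rw [Subgroup.mem_centralizer_singleton_iff]
    calc (gd (act g d))⁻¹ * g * gd d * a
        = (gd (act g d))⁻¹ * (g * (gd d * a * (gd d)⁻¹) * g⁻¹) * g * gd d := by group
      _ = (gd (act g d))⁻¹ * (gd (act g d) * a * (gd (act g d))⁻¹) * g * gd d := by rw [h1]
      _ = a * ((gd (act g d))⁻¹ * g * gd d) := by group
  let ψ : G →* ℤˣ :=
    { toFun := fun g => ∏ d : X, χ ⟨_, hmem g d⟩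
      map_one' := Finset.prod_eq_one fun d _ => by
        have hd : act 1 d = d := Subtype.ext (by simp [act])
        rw [← map_one χ]
        exact congrArg χ (Subtype.ext (by simp [hd]))
      map_mul' := fun g h => by
        have hb : Function.Bijective (act h) := by
          refine Finite.injective_iff_bijective.mp fun d e he => Subtype.ext ?_
          exact RootInv12.conj_injective h (congrArg Subtype.val he)
        rw [← hb.prod_comp (fun d => χ ⟨_, hmem g d⟩), ← Finset.prod_mul_distrib]
        refine Finset.prod_congr rfl fun d _ => ?_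
        rw [← map_mul]
        refine congrArg χ (Subtype.ext ?_)
        show (gd (act (g * h) d))⁻¹ * (g * h) * gd d =
          (gd (act g (act h d)))⁻¹ * g * gd (act h d) * ((gd (act h d))⁻¹ * h * gd d)
        rw [hact]; group }
  have hψ : ∏ d : X, χ ⟨_, hmem v d⟩ = 1 := h.hom_trivial hs ψ v
  rw [← Finset.prod_filter_mul_prod_filter_not Finset.univ (fun d : X => act v d = d)] at hψ
  have hinv : ∀ d, act v (act v d) = d := fun d => by
    rw [← hact, hv.1]; exact Subtype.ext (by simp [act])
  have hmoved : ∏ d ∈ Finset.univ.filter (fun d : X => ¬ act v d = d), χ ⟨_, hmem v d⟩ = 1 := by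
    refine Finset.prod_involution (fun d _ => act v d) (fun d _ => ?_)
      (fun d hd _ => (Finset.mem_filter.mp hd).2) (fun d hd => ?_) (fun d _ => hinv d)
    · rw [← map_mul, ← map_one χ]
      refine congrArg χ (Subtype.ext ?_)
      show (gd (act v d))⁻¹ * v * gd d * ((gd (act v (act v d)))⁻¹ * v * gd (act v d)) = 1
      rw [hinv]
      calc (gd (act v d))⁻¹ * v * gd d * ((gd d)⁻¹ * v * gd (act v d))
          = (gd (act v d))⁻¹ * (v * v) * gd (act v d) := by group
        _ = 1 := by rw [hv.1]; group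
    · simp only [Finset.mem_filter, Finset.mem_univ, true_and] at hd ⊢
      exact fun e => hd (by rw [hinv] at e; exact e.symm)
  rw [hmoved, mul_one, Finset.prod_congr rfl (g := fun _ =>
    χ ⟨v, Subgroup.mem_centralizer_singleton_iff.mpr ha.2.eq.symm⟩) fun d hd => ?_,
    Finset.prod_const] at hψ
  · have hcard : Odd (Finset.univ.filter (fun d : X => act v d = d)).card := by
      have hc := hodd
      rw [Set.ncard_eq_toFinset_card _ (Set.toFinite _)] at hc
      convert hc using 1
      refine Finset.card_bij (fun d _ => d.1) (fun d hd => ?_) (fun d _ e _ he => Subtype.ext he)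
        (fun y hy => ?_)
      · simp only [Finset.mem_filter, Finset.mem_univ, true_and] at hd
        exact (Set.Finite.mem_toFinset _).mpr ⟨d.2, commute_of_conj_eq (congrArg Subtype.val hd)⟩
      · obtain ⟨hy, hyv⟩ := (Set.Finite.mem_toFinset _).mp hy
        exact ⟨⟨y, hy⟩, by simpa [Finset.mem_filter] using
          (show act v ⟨y, hy⟩ = ⟨y, hy⟩ from Subtype.ext (conj_eq_of_commute hyv)), rfl⟩
    obtain ⟨k, hk⟩ := hcard
    rwa [hk, pow_succ, pow_mul, Int.units_sq, one_pow, one_mul] at hψ
  · simp only [Finset.mem_filter, Finset.mem_univ, true_and] at hd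
    obtain ⟨w, hwv, hwd⟩ := h.cv_conj hv ha
      (b := d.1) ⟨d.2, commute_of_conj_eq (congrArg Subtype.val hd)⟩
    have hk : w⁻¹ * gd d ∈ Subgroup.centralizer ({a} : Set G) := by
      rw [Subgroup.mem_centralizer_singleton_iff]
      have e := hwd.trans (hgd d)
      calc w⁻¹ * gd d * a = w⁻¹ * (gd d * a * (gd d)⁻¹) * gd d := by group
        _ = w⁻¹ * (w * a * w⁻¹) * gd d := by rw [e]
        _ = a * (w⁻¹ * gd d) := by group
    set k : ↥(Subgroup.centralizer ({a} : Set G)) := ⟨_, hk⟩ with hkdef
    have e : (⟨_, hmem v d⟩ : ↥(Subgroup.centralizer ({a} : Set G))) =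
        k⁻¹ * ⟨v, Subgroup.mem_centralizer_singleton_iff.mpr ha.2.eq.symm⟩ * k := by
      refine Subtype.ext ?_
      show (gd (act v d))⁻¹ * v * gd d = (w⁻¹ * gd d)⁻¹ * v * (w⁻¹ * gd d)
      rw [hd, mul_inv_rev, inv_inv]
      calc (gd d)⁻¹ * v * gd d = (gd d)⁻¹ * (v * w) * w⁻¹ * gd d := by group
        _ = (gd d)⁻¹ * w * v * (w⁻¹ * gd d) := by rw [← hwv.eq]; group
    rw [e, map_mul, map_mul, map_inv, mul_comm (χ k)⁻¹, inv_mul_cancel_right]

/-- An action of the centraliser of a member: `v` moves a multiple of four points. -/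
theorem action_mod_four {v a : G} (hs : IsSimpleGroup G) (hv : Bad D R v) (ha : a ∈ Cv D v)
    (hodd : Odd (Cv D v).ncard) {X : Type*} [Fintype X]
    [DecidableEq X] (φ : ↥(Subgroup.centralizer ({a} : Set G)) →* Equiv.Perm X) :
    (φ ⟨v, Subgroup.mem_centralizer_singleton_iff.mpr ha.2.eq.symm⟩).support.card % 4 = 0 :=
  moved_mod_four _ (by rw [← map_mul, ← map_one φ]; exact congrArg φ (Subtype.ext hv.1))
    (h.transfer_sign hs hv ha hodd (Equiv.Perm.sign.comp φ))

end Blocks

end Cfsg.Agent.Lib.RootBlocks41
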