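import Cfsg.Agent.Lib.RootBlocks41.Clique
import Cfsg.Agent.Lib.RootBlocks41.Transfer

/-!
# Cliques: a bad involution centralises more than one member of a class
-/

set_option autoImplicit false
set_option linter.unusedSectionVars false

namespace Cfsg.Agent.Lib.RootBlocks41

open Cfsg.Agent.Lib.Elem70

variable {G : Type*} [Group G] [Finite G] {D : Set G}

/-- A bad involution centralises a second member of the class of each member it centralises. -/
theorem Blocks.exists_second (h : Blocks D (fun a b => Commute a b)) (hs : IsSimpleGroup G)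
    (hl : HasLine D) {v a : G} (hv : Bad D (fun a b => Commute a b) v) (ha : a ∈ Cv D v) :
    ∃ b ∈ Cv D v, Commute a b ∧ b ≠ a := by
  classical
  by_contra hno
  push Not at hno
  have hD := h.hD
  -- every member of `Cv` is alone in its class
  have hsingle : ∀ x ∈ Cv D v, ∀ y ∈ Cv D v, Commute x y → y = x := by
    intro x hx y hy hxy
    obtain ⟨g, hgv, hgx⟩ := h.cv_conj hv hx ha
    have hmem : g * y * g⁻¹ ∈ Cv D v :=
      ⟨conj_self hD g hy.1, (hgv.mul_left hy.2).mul_left hgv.inv_left⟩
    have h1 := RootInv12.commute_conj hxy g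
    rw [hgx] at h1
    exact RootInv12.conj_injective g ((hno _ hmem h1).trans hgx.symm)
  have hodd : Odd (Cv D v).ncard := by
    have hsplit := Finset.card_filter_add_card_filter_not (s := (Set.toFinite (Cv D v)).toFinset)
      (fun x => a * x * a⁻¹ = x)
    have haa := RootInvolutions.mul_self hD ha.1
    have hback : ∀ x : G, a * (a * x * a⁻¹) * a⁻¹ = x := fun x => by
      rw [RootInv12.conj_conj, haa]; simp
    have heven : Even ((Set.toFinite (Cv D v)).toFinset.filter fun x => ¬ a * x * a⁻¹ = x).card := by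
      refine even_of_involution (fun x => a * x * a⁻¹) (fun x hx => ?_) (fun x _ => hback x)
        (fun x hx => (Finset.mem_filter.mp hx).2)
      simp only [Finset.mem_filter, Set.Finite.mem_toFinset] at hx ⊢
      exact ⟨⟨conj_self hD a hx.1.1, (ha.2.mul_left hx.1.2).mul_left ha.2.inv_left⟩,
        fun e => hx.2 (RootInv12.conj_injective a e)⟩
    have hfix : ((Set.toFinite (Cv D v)).toFinset.filter fun x => a * x * a⁻¹ = x) = {a} := by
      ext x
      simp only [Finset.mem_filter, Set.Finite.mem_toFinset, Finset.mem_singleton]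
      refine ⟨fun ⟨hx, e⟩ => hsingle a ha x hx (commute_of_conj_eq e).symm, ?_⟩
      rintro rfl
      exact ⟨ha, by rw [mul_inv_cancel_right]⟩
    rw [hfix, Finset.card_singleton] at hsplit
    rw [Set.ncard_eq_toFinset_card _ (Set.toFinite _), ← hsplit, Nat.odd_add]
    exact ⟨fun _ => heven, fun _ => odd_one⟩
  set P : Set G := {z | z ∈ D ∧ Commute z a ∧ z ≠ a} with hP
  have hPinv : ∀ g : G, Commute g a → ∀ z ∈ P, g * z * g⁻¹ ∈ P := by
    intro g hg z hz
    have e : g * a * g⁻¹ = a := conj_eq_of_commute hg.symm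
    refine ⟨conj_self hD g hz.1, ?_, fun e' => hz.2.2 (RootInv12.conj_injective g (e'.trans e.symm))⟩
    have := RootInv12.commute_conj hz.2.1 g
    rwa [e] at this
  have hmoved : ∀ z ∈ P, v * z * v⁻¹ = z * a := by
    intro z hz
    have hz' := hPinv v ha.2.symm z hz
    have hne : z ≠ v * z * v⁻¹ := fun e =>
      hz.2.2 (hsingle a ha z ⟨hz.1, commute_of_conj_eq e.symm⟩ hz.2.1.symm)
    have hc : Commute z (v * z * v⁻¹) := h.trans hz.1 ha.1 hz'.1 hz.2.1 hz'.2.1.symm
    have ht := h.mul_mem_of_cliques hs hz.1 hz'.1 hc hne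
    have hback : v * (v * z * v⁻¹) * v⁻¹ = z := by rw [RootInv12.conj_conj, hv.1]; simp
    have e : z * (v * z * v⁻¹) = a := hsingle a ha _ ⟨ht, commute_of_conj_eq (by
      rw [RootInv12.conj_mul', hback, hc.eq])⟩ (hz.2.1.symm.mul_right hz'.2.1.symm)
    calc v * z * v⁻¹ = z * z * (v * z * v⁻¹) := by
          rw [RootInvolutions.mul_self hD hz.1, one_mul]
      _ = z * a := by rw [mul_assoc, e]
  obtain ⟨z, hz⟩ := h.hasLine_all hl ha.1
  have hzP : z ∈ P := ⟨hz.1.1, hz.1.2.1, hz.1.2.2⟩
  have hzaP : z * a ∈ P := hmoved z hzP ▸ hPinv v ha.2.symm z hzP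
  have hPeq : ∀ u ∈ P, u = z ∨ u = z * a := by
    intro u hu
    by_contra hn
    push Not at hn
    have hc : Commute z u := h.trans hzP.1 ha.1 hu.1 hzP.2.1 hu.2.1.symm
    have ht := h.mul_mem_of_cliques hs hzP.1 hu.1 hc (Ne.symm hn.1)
    have e := hsingle a ha _ ⟨ht, commute_of_conj_eq (by
      rw [RootInv12.conj_mul', hmoved z hzP, hmoved u hu, hu.2.1.eq, mul_assoc z,
        ← mul_assoc a a, RootInvolutions.mul_self hD ha.1, one_mul])⟩
      (hzP.2.1.symm.mul_right hu.2.1.symm)
    exact hn.2 (by rw [← e, ← mul_assoc, RootInvolutions.mul_self hD hzP.1, one_mul])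
  let X := {x : G // x ∈ P}
  letI : Fintype X := Fintype.ofFinite X
  have hcen : ∀ g : ↥(Subgroup.centralizer ({a} : Set G)), Commute (g : G) a := fun g =>
    Subgroup.mem_centralizer_singleton_iff.mp g.2
  let φ : ↥(Subgroup.centralizer ({a} : Set G)) →* Equiv.Perm X :=
    { toFun := fun g =>
        { toFun := fun x => ⟨g * x.1 * (g : G)⁻¹, hPinv g (hcen g) x.1 x.2⟩
          invFun := fun x => ⟨(g : G)⁻¹ * x.1 * (g : G)⁻¹⁻¹, hPinv _ (hcen g).inv_left x.1 x.2⟩
          left_inv := fun x => Subtype.ext (by simp [mul_assoc])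
          right_inv := fun x => Subtype.ext (by simp [mul_assoc]) }
      map_one' := Equiv.ext fun x => Subtype.ext (by simp)
      map_mul' := fun g k => Equiv.ext fun x => Subtype.ext (by simp [mul_assoc]) }
  have h4 := h.action_mod_four hs hv ha hodd φ
  have hne : (⟨z, hzP⟩ : X) ≠ ⟨z * a, hzaP⟩ := fun e =>
    RootInvolutions.ne_one hD ha.1 (mul_eq_left.mp (congrArg Subtype.val e).symm)
  have hsupp : (φ ⟨v, Subgroup.mem_centralizer_singleton_iff.mpr ha.2.eq.symm⟩).support =
      {⟨z, hzP⟩, ⟨z * a, hzaP⟩} := by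
    ext x
    simp only [Equiv.Perm.mem_support, Finset.mem_insert, Finset.mem_singleton]
    refine ⟨fun _ => (hPeq x.1 x.2).imp Subtype.ext Subtype.ext, fun _ e => ?_⟩
    exact x.2.2.2 (hsingle a ha x.1 ⟨x.2.1, commute_of_conj_eq (congrArg Subtype.val e)⟩
      x.2.2.1.symm)
  rw [hsupp, Finset.card_pair hne] at h4
  exact absurd h4 (by norm_num)

end Cfsg.Agent.Lib.RootBlocks41
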