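import Cfsg.Agent.Lib.RootBlocks41.Bad

/-!
# A critical class: simple group, related members not all commuting
-/

set_option autoImplicit false
set_option linter.unusedSectionVars false

namespace Cfsg.Agent.Lib.RootBlocks41

open Cfsg.Agent.Lib.Elem70

variable {G : Type*} [Group G] {D : Set G} {R : G → G → Prop}

/-- A line inside `Cv`. -/
def Lineful (D : Set G) (v : G) : Prop :=
  ∃ a ∈ Cv D v, ∃ b ∈ Cv D v, b ∈ Cfsg.productPartners D a

/-- A minimal class with non-commuting related members. -/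
structure Crit (D : Set G) (R : G → G → Prop) : Prop where
  blocks : Blocks D R
  odd : OddBlocks D R
  line : HasLine D
  simple : IsSimpleGroup G
  nc : ∃ a ∈ D, ∃ b ∈ D, R a b ∧ ¬ Commute a b
  ih : ∀ v, Bad D R v → Lineful D v →
    ∀ a ∈ Cv D v, ∀ b ∈ Cv D v, R a b → Commute a b

/-- The midpoint of a moved member, without a block hypothesis. -/
theorem mid_moved (hD : Cfsg.IsRootInvolutionSet D) {t x : G} (ht : t * t = 1)
    (hadj : Cfsg.OddAdj D x (t * x * t⁻¹)) :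
    mid x (t * x * t⁻¹) ∈ D ∧ Commute (mid x (t * x * t⁻¹)) t ∧
      Cfsg.OddAdj D x (mid x (t * x * t⁻¹)) ∧
      mid x (t * x * t⁻¹) * x * mid x (t * x * t⁻¹) = t * x * t⁻¹ := by
  obtain ⟨hjD, hjx, hxj, -⟩ := mid_spec hD hadj
  set x' := t * x * t⁻¹ with hx'
  set j := mid x x'
  have ti := inv_of_mul_self ht
  have hjj := RootInvolutions.mul_self hD hjD
  have hback : j * x' * j = x := by
    rw [← hjx]
    calc j * (j * x * j) * j = j * j * x * (j * j) := by simp only [mul_assoc]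
      _ = x := by rw [hjj, one_mul, mul_one]
  have hx'j : Cfsg.OddAdj D x' j := by
    have := RootInv12.adj_conj hD hxj j
    rwa [mul_inv_cancel_right, RootInvolutions.inv_self hD hjD, hjx] at this
  have hadj' : Cfsg.OddAdj D x (t * j * t⁻¹) := by
    have := RootInv12.adj_conj hD hx'j t
    rwa [hx', RootInv12.conj_conj, ht, one_mul, inv_one, mul_one] at this
  refine ⟨hjD, commute_of_conj_eq (mid_unique hD hadj' hxj ?_), hxj, hjx⟩
  rw [hjx, ti]
  calc t * j * t * x * (t * j * t) = t * (j * x' * j) * t := by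
        rw [hx', ti]; simp only [mul_assoc]
    _ = x' := by rw [hback, hx', ti]

/-- Three commuting members with a line through one of them give a line centralising their
product. -/
theorem triple (hD : Cfsg.IsRootInvolutionSet D) {p q r z : G} (hp : p ∈ D) (hq : q ∈ D)
    (hr : r ∈ D) (hpq : Commute p q) (hqr : Commute q r) (hpr : Commute p r)
    (hz : z ∈ Cfsg.productPartners D p) : Lineful D (p * q * r) := by
  have hpi : Commute p (p * q * r) := ((Commute.refl p).mul_right hpq).mul_right hpr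
  have hqi : Commute q (p * q * r) := (hpq.symm.mul_right (Commute.refl q)).mul_right hqr
  have hri : Commute r (p * q * r) := (hpr.symm.mul_right hqr.symm).mul_right (Commute.refl r)
  have hzp : Commute z p := hz.1.2.1
  have hcm : ∀ {g}, Commute g p → Commute g q → Commute g r → Commute g (p * q * r) :=
    fun h1 h2 h3 => (h1.mul_right h2).mul_right h3
  have hnp : ∀ {e}, e ∈ D → Commute e p → ¬ Cfsg.OddAdj D z e := fun he hep hadj =>
    RootInvolutions.ne_one hD hp (parity hD hadj hz.2 hzp.symm hep.symm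
      (RootInvolutions.mul_self hD hp))
  rcases trichotomy hD hz.1.1 hq with hzq | ho | ⟨h4, hg⟩
  · rcases trichotomy hD hz.1.1 hr with hzr | ho | ⟨h4, hg⟩
    · exact ⟨p, ⟨hp, hpi⟩, z, ⟨hz.1.1, hcm hzp hzq hzr⟩, hz⟩
    · exact absurd ho (hnp hr hpr.symm)
    · obtain ⟨hgz, hgr, -, hgR⟩ := sq_facts hD hz.1.1 hr h4 hg
      refine ⟨r, ⟨hr, hri⟩, (z * r) ^ 2, ⟨hg, hcm ?_ ?_ hgr⟩, hgR⟩
      · exact (hzp.mul_left hpr.symm).pow_left 2
      · exact (hzq.mul_left hqr.symm).pow_left 2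
  · exact absurd ho (hnp hq hpq.symm)
  · obtain ⟨hgz, hgq, -, hgQ⟩ := sq_facts hD hz.1.1 hq h4 hg
    have hgp : Commute ((z * q) ^ 2) p := (hzp.mul_left hpq.symm).pow_left 2
    rcases trichotomy hD hg hr with hgr | ho | ⟨h4', hg'⟩
    · exact ⟨q, ⟨hq, hqi⟩, (z * q) ^ 2, ⟨hg, hcm hgp hgq hgr⟩, hgQ⟩
    · exact absurd (parity hD ho hgQ.2 hgq.symm hqr (RootInvolutions.mul_self hD hq))
        (RootInvolutions.ne_one hD hq)
    · obtain ⟨-, hg'r, -, hg'R⟩ := sq_facts hD hg hr h4' hg'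
      refine ⟨r, ⟨hr, hri⟩, ((z * q) ^ 2 * r) ^ 2, ⟨hg', hcm ?_ ?_ hg'r⟩, hg'R⟩
      · exact (hgp.mul_left hpr.symm).pow_left 2
      · exact (hgq.mul_left hqr.symm).pow_left 2

namespace Crit

variable [Finite G] (c : Crit D R)
include c

/-- Every member of a lineful `Cv` lies on a line in it. -/
theorem line_at {v a : G} (hv : Bad D R v) (hl : Lineful D v) (ha : a ∈ Cv D v) :
    ∃ b ∈ Cv D v, b ∈ Cfsg.productPartners D a := by
  obtain ⟨p, hp, q, hq, hpq⟩ := hl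
  obtain ⟨g, hg⟩ := (c.blocks.sub_cv hv).cl ⟨p, Subgroup.subset_closure hp⟩ hp
    ⟨a, Subgroup.subset_closure ha⟩ ha
  have hga : a = (g : G) * p * (g : G)⁻¹ := congrArg Subtype.val hg
  subst hga
  have hgv : Commute (g : G) v := by
    have : Subgroup.closure (Cv D v) ≤ Subgroup.centralizer {v} := by
      rw [Subgroup.closure_le]
      exact fun y hy => Subgroup.mem_centralizer_singleton_iff.mpr hy.2.eq
    exact Subgroup.mem_centralizer_singleton_iff.mp (this g.2)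
  refine ⟨(g : G) * q * (g : G)⁻¹, ⟨conj_self c.blocks.hD _ hq.1,
    (hgv.mul_left hq.2).mul_left hgv.inv_left⟩, ⟨conj_self c.blocks.hD _ hq.1,
    RootInv12.commute_conj hpq.1.2.1 _,
    fun e => hpq.1.2.2 (RootInv12.conj_injective _ e)⟩, ?_⟩
  rw [← RootInv12.conj_mul']
  exact conj_self c.blocks.hD _ hpq.2

theorem odd_block {v x : G} (hv : v * v = 1) (hx : x ∈ Cv D v) :
    Odd {y | y ∈ Cv D v ∧ R x y}.ncard := by
  have hvx : v * x * v⁻¹ = x := conj_eq_of_commute hx.2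
  have h1 := odd_fixed (Set.toFinite _) (c.odd x hx.1) (fun y => v * y * v⁻¹)
    (fun y hy => ⟨conj_self c.blocks.hD v hy.1, by
      have := c.blocks.conj hx.1 hy.1 hy.2 v; rwa [hvx] at this⟩)
    (fun y _ => by rw [RootInv12.conj_conj, hv]; simp)
  convert h1 using 2
  ext y
  exact ⟨fun ⟨⟨hy, hyv⟩, hr⟩ => ⟨⟨hy, hr⟩, conj_eq_of_commute hyv⟩,
    fun ⟨⟨hy, hr⟩, e⟩ => ⟨⟨hy, commute_of_conj_eq e⟩, hr⟩⟩

open scoped IsMulCommutative in
/-- A lineful bad involution is no product of three related commuting members. -/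
theorem avg {p q r : G} (hp : p ∈ D) (hq : q ∈ D) (hr : r ∈ D) (hpq : Commute p q)
    (hqr : Commute q r) (hpr : Commute p r) (hv : Bad D R (p * q * r))
    (hl : Lineful D (p * q * r)) : False := by
  classical
  have h := c.blocks
  set i := p * q * r with hi
  have hpi : p ∈ Cv D i := ⟨hp, ((Commute.refl p).mul_right hpq).mul_right hpr⟩
  have hqi : q ∈ Cv D i := ⟨hq, (hpq.symm.mul_right (Commute.refl q)).mul_right hqr⟩
  have hri : r ∈ Cv D i := ⟨hr, (hpr.symm.mul_right hqr.symm).mul_right (Commute.refl r)⟩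
  obtain ⟨x, hx, hxi, hpx⟩ := h.exists_far hv hp
  set Ax : Set G := {y | y ∈ Cv D i ∧ R x y} with hAx
  have hcomm : ∀ y ∈ Ax, ∀ z ∈ Ax, y * z = z * y := fun y hy z hz =>
    (c.ih i hv hl y hy.1 z hz.1 (h.trans hy.1.1 hx hz.1.1 (h.symm hx hy.1.1 hy.2) hz.2)).eq
  set K := Subgroup.closure Ax
  haveI : IsMulCommutative K := Subgroup.isMulCommutative_closure hcomm
  set S : Finset G :=
    (Set.toFinite {s | s ∈ Cv D i ∧ R x (s * p * s⁻¹)}).toFinset with hS
  have hmS : ∀ s, s ∈ S ↔ s ∈ Cv D i ∧ R x (s * p * s⁻¹) := fun s => by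
    rw [hS, Set.Finite.mem_toFinset]; rfl
  set A : Finset G := (Set.toFinite Ax).toFinset with hA
  have hmA : ∀ y, y ∈ A ↔ y ∈ Cv D i ∧ R x y := fun y => by
    rw [hA, Set.Finite.mem_toFinset]; rfl
  have hAodd : Odd A.card := by
    rw [hA, ← Set.ncard_eq_toFinset_card]; exact c.odd_block hv.1 ⟨hx, hxi⟩
  -- the images of a member related to `p`
  have himg : ∀ b ∈ Cv D i, R p b → ∀ s ∈ S, s * b * s⁻¹ ∈ Cv D i ∧ R x (s * b * s⁻¹) ∧
      Cfsg.OddAdj D b s := by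
    intro b hb hpb s hs
    obtain ⟨hsC, hxs⟩ := (hmS s).mp hs
    have hsb : s * b * s⁻¹ ∈ Cv D i := by
      refine ⟨conj_self h.hD s hb.1, (hsC.2.mul_left hb.2).mul_left hsC.2.inv_left⟩
    have hxsb : R x (s * b * s⁻¹) :=
      h.trans hx (conj_self h.hD s hp) hsb.1 hxs (h.conj hp hb.1 hpb s)
    refine ⟨hsb, hxsb, h.adj_of_not hb.1 hsC.1 fun hbs => hpx ?_⟩
    have h1 := h.conj hb.1 hsC.1 hbs s
    rw [mul_inv_cancel_right] at h1
    exact h.trans hp hb.1 hx hpb (h.trans hb.1 hsC.1 hx hbs (h.trans hsC.1 hsb.1 hx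
      (h.symm hsb.1 hsC.1 h1) (h.symm hx hsb.1 hxsb)))
  have hmem : ∀ b ∈ Cv D i, R p b → ∀ s ∈ S, s * b * s⁻¹ ∈ K := fun b hb hpb s hs =>
    Subgroup.subset_closure ⟨(himg b hb hpb s hs).1, (himg b hb hpb s hs).2.1⟩
  -- the product of the images
  let f : G → G → K := fun u s => if hu : s * u * s⁻¹ ∈ K then ⟨s * u * s⁻¹, hu⟩ else 1
  have hf : ∀ u s, s * u * s⁻¹ ∈ K → (f u s : G) = s * u * s⁻¹ := fun u s hu => by
    simp [f, dif_pos hu]
  have hmul : ∀ u w, (∀ s ∈ S, s * u * s⁻¹ ∈ K) → (∀ s ∈ S, s * w * s⁻¹ ∈ K) →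
      (∀ s ∈ S, s * (u * w) * s⁻¹ ∈ K) ∧
      ∏ s ∈ S, f (u * w) s = (∏ s ∈ S, f u s) * ∏ s ∈ S, f w s := by
    intro u w hu hw
    have h1 : ∀ s ∈ S, s * (u * w) * s⁻¹ ∈ K := fun s hs => by
      rw [RootInv12.conj_mul']; exact mul_mem (hu s hs) (hw s hs)
    refine ⟨h1, ?_⟩
    rw [← Finset.prod_mul_distrib]
    refine Finset.prod_congr rfl fun s hs => Subtype.ext ?_
    rw [hf _ _ (h1 s hs), Subgroup.coe_mul, hf _ _ (hu s hs), hf _ _ (hw s hs),
      RootInv12.conj_mul']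
  set σ : K := ∏ y ∈ A.attach,
    (⟨y.1, Subgroup.subset_closure ((hmA y.1).mp y.2)⟩ : K) with hσ
  have hbij : ∀ b ∈ Cv D i, R p b → ∏ s ∈ S, f b s = σ ∧ S.card = A.card := by
    intro b hb hpb
    have hcard : Function.Injective fun s : S => (⟨s.1 * b * s.1⁻¹,
        (hmA _).mpr ⟨(himg b hb hpb s.1 s.2).1, (himg b hb hpb s.1 s.2).2.1⟩⟩ : A) := by
      intro s s' e
      have e' : s.1 * b * s.1⁻¹ = s'.1 * b * s'.1⁻¹ := congrArg Subtype.val e
      rw [RootInvolutions.inv_self h.hD ((hmS _).mp s.2).1.1,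
        RootInvolutions.inv_self h.hD ((hmS _).mp s'.2).1.1] at e'
      exact Subtype.ext (mid_unique h.hD (himg b hb hpb s.1 s.2).2.2
        (himg b hb hpb s'.1 s'.2).2.2 e')
    have hsurj : Function.Surjective fun s : S => (⟨s.1 * b * s.1⁻¹,
        (hmA _).mpr ⟨(himg b hb hpb s.1 s.2).1, (himg b hb hpb s.1 s.2).2.1⟩⟩ : A) := by
      rintro ⟨y, hy⟩
      obtain ⟨hyC, hxy⟩ := (hmA y).mp hy
      have hby : ¬ R b y := fun hby => hpx (h.trans hp hb.1 hx hpb (h.trans hb.1 hyC.1 hx hby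
        (h.symm hx hyC.1 hxy)))
      obtain ⟨hsD, hsb, -, hcen⟩ := mid_spec h.hD (h.adj_of_not hb.1 hyC.1 hby)
      have hsy : mid b y * b * (mid b y)⁻¹ = y := by
        rwa [RootInvolutions.inv_self h.hD hsD]
      refine ⟨⟨mid b y, (hmS _).mpr ⟨⟨hsD, (hcen i hb.2.symm hyC.2.symm).symm⟩, ?_⟩⟩,
        Subtype.ext hsy⟩
      have h1 := h.conj hp hb.1 hpb (mid b y)
      rw [hsy] at h1
      exact h.trans hx hyC.1 (conj_self h.hD _ hp) hxy (h.symm (conj_self h.hD _ hp) hyC.1 h1)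
    refine ⟨?_, by simpa using Fintype.card_of_bijective ⟨hcard, hsurj⟩⟩
    rw [hσ, ← Finset.prod_attach S]
    refine Fintype.prod_bijective _ ⟨hcard, hsurj⟩ _ _ fun s => Subtype.ext ?_
    rw [hf _ _ (hmem b hb hpb s.1 s.2)]
  have hσ2 : σ * σ = 1 := by
    obtain ⟨h1, -⟩ := hbij p hpi (h.self hp)
    obtain ⟨-, h2⟩ := hmul p p (hmem p hpi (h.self hp)) (hmem p hpi (h.self hp))
    rw [h1, RootInvolutions.mul_self h.hD hp] at h2
    rw [← h2]
    refine Finset.prod_eq_one fun s _ => Subtype.ext ?_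
    rw [hf _ _ (by simp [one_mem])]
    simp
  -- a line through `p`
  obtain ⟨b, hb, hpb⟩ := c.line_at hv hl hpi
  have hpb' : R p b := h.comm hp hb.1 hpb.1.2.1.symm
  have hbp : b * p ∈ Cv D i := ⟨hpb.2, hb.2.mul_left hpi.2⟩
  have hσ1 : σ = 1 := by
    obtain ⟨-, h2⟩ := hmul b p (hmem b hb hpb') (hmem p hpi (h.self hp))
    rw [(hbij b hb hpb').1, (hbij p hpi (h.self hp)).1, hσ2,
      (hbij _ hbp (h.comm hp hpb.2 (Commute.mul_right hpb.1.2.1.symm (Commute.refl p)))).1] at h2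
    exact h2
  have hRq : R p q := h.comm hp hq hpq
  have hRr : R p r := h.comm hp hr hpr
  obtain ⟨m1, h1⟩ := hmul p q (hmem p hpi (h.self hp)) (hmem q hqi hRq)
  obtain ⟨-, h2⟩ := hmul (p * q) r m1 (hmem r hri hRr)
  rw [h1, (hbij p hpi (h.self hp)).1, (hbij q hqi hRq).1, (hbij r hri hRr).1, hσ1, one_mul,
    one_mul, ← hi] at h2
  have hfix : ∀ s ∈ S, s * i * s⁻¹ = i := fun s hs =>
    conj_eq_of_commute (((hmS s).mp hs).1.2).symm
  have hiK : i ∈ K := by
    obtain ⟨m, -⟩ := hmul (p * q) r m1 (hmem r hri hRr)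
    obtain ⟨s, hs⟩ : S.Nonempty := Finset.card_pos.mp
      ((hbij p hpi (h.self hp)).2 ▸ hAodd.pos)
    rw [← hfix s hs]; exact hi ▸ m s hs
  rw [Finset.prod_congr rfl (g := fun _ => (⟨i, hiK⟩ : K)) (fun s hs => Subtype.ext (by
    rw [hf _ _ (by rw [hfix s hs]; exact hiK), hfix s hs])), Finset.prod_const] at h2
  obtain ⟨k, hk⟩ := (hbij p hpi (h.self hp)).2 ▸ hAodd
  rw [hk, pow_succ, pow_mul, sq, show (⟨i, hiK⟩ : K) * ⟨i, hiK⟩ = 1 from Subtype.ext hv.1,
    one_pow, one_mul] at h2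
  exact hv.2.1 (congrArg Subtype.val h2)

end Crit

end Cfsg.Agent.Lib.RootBlocks41
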