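import Cfsg.Agent.Lib.RootInv12.Basic
import Cfsg.Agent.Lib.PSolvable.Basic
import Cfsg.Agent.Lib.Involutions.BaerSuzuki

/-!
# Involutions with pairwise products of order dividing four generate a two-group
-/

set_option autoImplicit false

namespace Cfsg.Agent.Lib.RootBlocks41

variable {G : Type*} [Group G] [Finite G]

/-- A set of involutions closed under conjugation by its members with all products of order
dividing four generates a `2`-group. -/
theorem isPGroup_closure_of_pow_four {S : Set G} (hS : ∀ s ∈ S, orderOf s = 2)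
    (hconj : ∀ s ∈ S, ∀ t ∈ S, s * t * s⁻¹ ∈ S) (h4 : ∀ s ∈ S, ∀ t ∈ S, (s * t) ^ 4 = 1) :
    IsPGroup 2 (Subgroup.closure S) := by
  set W := Subgroup.closure S with hW
  have hconjW : ∀ g ∈ W, ∀ s ∈ S, g * s * g⁻¹ ∈ S := by
    intro g hg
    induction hg using Subgroup.closure_induction'' with
    | mem y hy => exact hconj y hy
    | inv_mem y hy =>
      intro s hs
      rw [inv_inv, Elem70.RootInvolutions.inv_eq_self (hS y hy)]
      have := hconj y hy s hs
      rwa [Elem70.RootInvolutions.inv_eq_self (hS y hy)] at this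
    | one => intro s hs; simpa using hs
    | mul p q _ _ ihp ihq => intro s hs; rw [← RootInv12.conj_conj]; exact ihp _ (ihq s hs)
  have hle : ∀ s : W, (s : G) ∈ S → s ∈ Cfsg.pCore 2 W := by
    intro s hs
    by_contra hn
    obtain ⟨k, hk1, ⟨m, hm⟩, hinv⟩ := Involutions.BaerSuzuki.exists_odd_inverted s
      (by rw [← Subgroup.orderOf_coe]; exact hS _ hs)
      fun N hN hN2 hsN => hn (PSolvable.le_pCore hN hN2 hsN)
    have hss : s * s = 1 := by
      rw [← sq, ← show orderOf s = 2 by rw [← Subgroup.orderOf_coe]; exact hS _ hs,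
        pow_orderOf_eq_one]
    have hsi : s⁻¹ = s := inv_eq_of_mul_eq_one_right hss
    set l := k ^ (m + 1)
    have hl : l * l = k := by
      rw [← pow_add, show m + 1 + (m + 1) = orderOf k + 1 by omega, pow_succ, pow_orderOf_eq_one,
        one_mul]
    have hli : s * l * s⁻¹ = l⁻¹ := by rw [← conj_pow, hinv, inv_pow]
    have hconj' : l * s * l⁻¹ = k * s := by
      calc l * s * l⁻¹ = l * (s * l⁻¹ * s⁻¹) * s := by group
        _ = l * (s * l * s⁻¹)⁻¹ * s := by group
        _ = k * s := by rw [hli, inv_inv, hl]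
    have hmem : ((k * s : W) : G) ∈ S := by
      rw [← hconj']; exact hconjW _ l.2 _ hs
    have h1 : (s * (k * s)) ^ 4 = 1 := Subtype.ext (by simpa using h4 _ hs _ hmem)
    have e : s * (k * s) = k⁻¹ := by rw [← hinv, hsi, mul_assoc]
    rw [e, inv_pow, inv_eq_one] at h1
    exact hk1 (RootInv12.odd_pow_eq (i := 2) ⟨m, hm⟩ (by simpa using h1))
  have htop : Cfsg.pCore 2 W = ⊤ := by
    rw [eq_top_iff, ← Subgroup.closure_closure_coe_preimage, Subgroup.closure_le]
    exact fun s hs => hle s hs
  have h2 : IsPGroup 2 (Cfsg.pCore 2 W) := PSolvable.isPGroup_pCore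
  rw [htop] at h2
  exact h2.of_equiv Subgroup.topEquiv

end Cfsg.Agent.Lib.RootBlocks41
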