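import Cfsg.Agent.Lib.RootBlocks41.Basic
import Cfsg.Agent.Lib.RootInv12.Exact

/-!
# Components for commuting pairs with product in the class
-/

set_option autoImplicit false
set_option linter.unusedSectionVars false

namespace Cfsg.Agent.Lib.RootBlocks41

open Cfsg.Agent.Lib.Elem70

variable {G : Type*} [Group G] {D : Set G}

/-- Reachability along lines. -/
abbrev Linked (D : Set G) : G → G → Prop := Relation.ReflTransGen (Cfsg.ProdAdj D)

section

variable (hD : Cfsg.IsRootInvolutionSet D)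
include hD

theorem prodAdj_of_line {a b : G} (ha : a ∈ D) (hb : b ∈ Cfsg.productPartners D a) :
    Cfsg.ProdAdj D a b :=
  ⟨ha, hb.1.1, hb.1.2.2.symm, hb.1.2.1.symm, hb.1.2.1 ▸ hb.2⟩

theorem line_of_prodAdj {a b : G} (h : Cfsg.ProdAdj D a b) : b ∈ Cfsg.productPartners D a :=
  ⟨⟨h.2.1, h.2.2.2.1.symm, h.2.2.1.symm⟩, h.2.2.2.1 ▸ h.2.2.2.2⟩

theorem prodAdj_symm {a b : G} (h : Cfsg.ProdAdj D a b) : Cfsg.ProdAdj D b a :=
  prodAdj_of_line hD h.2.1 (line_symm hD h.1 (line_of_prodAdj hD h))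

theorem linked_symm {a b : G} (h : Linked D a b) : Linked D b a := by
  induction h with
  | refl => exact .refl
  | tail _ h2 ih => exact (Relation.ReflTransGen.single (prodAdj_symm hD h2)).trans ih

theorem linked_mem {a b : G} (ha : a ∈ D) (h : Linked D a b) : b ∈ D := by
  induction h with
  | refl => exact ha
  | tail _ h2 _ => exact h2.2.1

theorem linked_conj {a b : G} (h : Linked D a b) (g : G) :
    Linked D (g * a * g⁻¹) (g * b * g⁻¹) := by
  refine h.lift (fun x => g * x * g⁻¹) fun x y hxy => ?_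
  exact ⟨conj_self hD g hxy.1, conj_self hD g hxy.2.1,
    fun e => hxy.2.2.1 (RootInv12.conj_injective g e), RootInv12.commute_conj hxy.2.2.2.1 g,
    by rw [← RootInv12.conj_mul']; exact conj_self hD g hxy.2.2.2.2⟩

/-- The ends of a product of order four are linked. -/
theorem linked_of_four {a b : G} (ha : a ∈ D) (hb : b ∈ D) (h4 : orderOf (a * b) = 4)
    (hg : (a * b) ^ 2 ∈ D) : Linked D a b := by
  obtain ⟨-, -, h1, h2⟩ := sq_facts hD ha hb h4 hg
  exact (Relation.ReflTransGen.single (prodAdj_of_line hD ha h1)).tail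
    (prodAdj_symm hD (prodAdj_of_line hD hb h2))

/-- Non-adjacent non-commuting members are linked. -/
theorem linked_of_not_adj {a b : G} (ha : a ∈ D) (hb : b ∈ D) (hn : ¬ Cfsg.OddAdj D a b)
    (hc : ¬ Commute a b) : Linked D a b := by
  rcases trichotomy hD ha hb with h | h | ⟨h4, hg⟩
  · exact absurd h hc
  · exact absurd h hn
  · exact linked_of_four hD ha hb h4 hg

/-- A member outside a component commuting with one member of it commutes with all of it. -/
theorem commute_component {b e : G} (hb : b ∈ D) (he : e ∈ D) (hc : Commute e b)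
    (hn : ¬ Linked D b e) {x : G} (hx : Linked D b x) : Commute e x := by
  induction hx with
  | refl => exact hc
  | @tail y z hy h2 ih =>
    rcases trichotomy hD h2.2.1 he with h | ho | ⟨h4, hg⟩
    · exact h.symm
    · exfalso
      have hyz : Commute y z := h2.2.2.2.1
      exact RootInvolutions.ne_one hD h2.1 (parity hD ho (hyz.eq ▸ h2.2.2.2.2) hyz ih.symm
        (RootInvolutions.mul_self hD h2.1))
    · exact absurd ((hy.tail h2).trans (linked_of_four hD h2.2.1 he h4 hg)) hn

theorem four_partner (hcl : ∀ a ∈ D, ∀ b ∈ D, ∃ g, b = g * a * g⁻¹) (hf : HasFour D) {b : G}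
    (hb : b ∈ D) : ∃ u ∈ D, orderOf (b * u) = 4 ∧ (b * u) ^ 2 ∈ D := by
  obtain ⟨p, hp, q, hq, h4⟩ := hf
  obtain ⟨g, rfl⟩ := hcl p hp b hb
  refine ⟨g * q * g⁻¹, conj_self hD g hq, ?_, ?_⟩
  · rw [← RootInv12.conj_mul']; exact ((MulAut.conj g).orderOf_eq _).trans h4
  · rw [← RootInv12.conj_mul', conj_pow]
    rcases trichotomy hD hp hq with h | h | ⟨-, hg⟩
    · exact absurd h.eq (RootInv.not_comm_of_four hD hp hq h4)
    · have := h.2.2.2; rw [h4] at this; exact absurd this (by decide)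
    · exact conj_self hD g hg

theorem four_in_partners (hcl : ∀ a ∈ D, ∀ b ∈ D, ∃ g, b = g * a * g⁻¹) (hf : HasFour D) {b : G}
    (hb : b ∈ D) : ∃ z ∈ Cfsg.productPartners D b, ∃ u ∈ Cfsg.productPartners D b,
      orderOf (z * u) = 4 := by
  obtain ⟨p, hp, q, hq, h4⟩ := hf
  obtain ⟨u, hu, hu4, hg⟩ := four_partner hD hcl ⟨p, hp, q, hq, h4⟩ hp
  obtain ⟨-, -, h1, h2⟩ := sq_facts hD hp hu hu4 hg
  obtain ⟨g, hg'⟩ := hcl _ hg b hb
  have key : ∀ {z}, z ∈ D → (p * u) ^ 2 ∈ Cfsg.productPartners D z →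
      g * z * g⁻¹ ∈ Cfsg.productPartners D b := by
    intro z hzD hz
    have hzq := line_symm hD hzD hz
    subst hg'
    refine ⟨⟨conj_self hD g hzD, RootInv12.commute_conj hzq.1.2.1 g,
      fun e => hzq.1.2.2 (RootInv12.conj_injective g e)⟩, ?_⟩
    rw [← RootInv12.conj_mul']; exact conj_self hD g hzq.2
  refine ⟨_, key hp h1, _, key hu h2, ?_⟩
  rw [← RootInv12.conj_mul']; exact ((MulAut.conj g).orderOf_eq _).trans hu4

/-- Generation: the component of `d` is conjugate to `d` under `⟨X_d, x⟩`. -/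
theorem conj_mem_gen [Finite G] (hconn : Cfsg.IsConnectedSet (Cfsg.OddAdj D) D) {d x : G}
    (hadj : Cfsg.OddAdj D d x) {y : G} (hy : Linked D d y) :
    ∃ g ∈ Subgroup.closure (Cfsg.productPartners D d ∪ {x}), y = g * d * g⁻¹ := by
  set K := Subgroup.closure (Cfsg.productPartners D d ∪ {x}) with hK
  have hx : x ∈ K := Subgroup.subset_closure (Or.inr rfl)
  have hX : ∀ c ∈ Cfsg.productPartners D d, c ∈ K := fun c hc =>
    Subgroup.subset_closure (Or.inl hc)
  induction hy with
  | refl => exact ⟨1, one_mem _, by simp⟩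
  | @tail y z _ h2 ih =>
    obtain ⟨g, hg, rfl⟩ := ih
    set c := g⁻¹ * z * g with hcdef
    have hzc : z = g * c * g⁻¹ := by simp [hcdef, mul_assoc]
    have hcP : c ∈ Cfsg.productPartners D d := by
      have hl := line_of_prodAdj hD h2
      have hd' : g⁻¹ * (g * d * g⁻¹) * g = d := by simp [mul_assoc]
      refine ⟨⟨by simpa [hcdef] using conj_self hD g⁻¹ hl.1.1, ?_, fun e => hl.1.2.2 ?_⟩, ?_⟩
      · have := RootInv12.commute_conj hl.1.2.1 g⁻¹
        simpa [hcdef, mul_assoc, Commute, SemiconjBy] using this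
      · rw [hzc, e]
      · have := conj_self hD g⁻¹ hl.2
        simpa [hcdef, mul_assoc] using this
    suffices ∃ h ∈ K, c = h * d * h⁻¹ by
      obtain ⟨h, hh, hc⟩ := this
      exact ⟨g * h, mul_mem hg hh, by rw [hzc, hc, RootInv12.conj_conj]⟩
    have hdc : c * d ∈ Cfsg.productPartners D d := line_third hD hadj.1 hcP
    have hdK : d ∈ K := by
      have := mul_mem (hX c hcP) (hX _ hdc)
      rwa [← mul_assoc, RootInvolutions.mul_self hD hcP.1.1, one_mul] at this
    have hconjK : ∀ {p q : G}, p ∈ K → q ∈ K → Cfsg.OddAdj D p q →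
        ∃ h ∈ K, q = h * p * h⁻¹ := by
      intro p q hp hq hpq
      obtain ⟨h, hh, he⟩ := RootInv.exists_conj_of_odd hD hpq.1 (mem_oddPartners hD hpq)
      refine ⟨h, (Subgroup.closure_le K).mpr ?_ hh, he⟩
      rintro w (rfl | rfl) <;> assumption
    obtain ⟨h1, hh1, e1⟩ := hconjK hdK hx hadj
    rcases RootInvolutions.line_lemma hD hadj.1 hcP (RootInvolutions.adj_symm hD hadj) with h | h
    · obtain ⟨h2', hh2, e2⟩ := hconjK hx (hX c hcP) h
      exact ⟨h2' * h1, mul_mem hh2 hh1, by rw [e2, e1, RootInv12.conj_conj]⟩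
    by_cases hcx : Cfsg.OddAdj D x c
    · obtain ⟨h2', hh2, e2⟩ := hconjK hx (hX c hcP) hcx
      exact ⟨h2' * h1, mul_mem hh2 hh1, by rw [e2, e1, RootInv12.conj_conj]⟩
    obtain ⟨x', hx', hx'n⟩ : ∃ x', x' ∈ Cfsg.oddPartners D c ∧ x' ∉ Cfsg.oddPartners D d := by
      by_contra hno
      push Not at hno
      have := RootInv.eq_of_subset hD hconn hcP.1.1 hadj.1 hno
      exact hcx (RootInvolutions.adj_symm hD (adj_of_mem hD hcP.1.1 (this ▸ mem_oddPartners hD hadj)))
    have hcfg : RootInv12.Orbit.Cfg D x' c d :=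
      ⟨hD, hadj.1, Eq.symm hcP.1.2.1, by rw [← hcP.1.2.1]; exact hcP.2,
        RootInvolutions.adj_symm hD (adj_of_mem hD hcP.1.1 hx'),
        fun hn => hx'n (mem_oddPartners hD (RootInvolutions.adj_symm hD hn))⟩
    obtain ⟨t, ht, ht4, htd⟩ := RootInv12.exists_mover hcfg
    obtain ⟨-, -, htP, -⟩ := sq_facts hD ht hcP.1.1 ht4 (by rw [htd]; exact hadj.1)
    rw [htd] at htP
    have hcdx : Cfsg.OddAdj D x (c * d) := h
    obtain ⟨h2', hh2, e2⟩ := hconjK hx (hX _ hdc) hcdx
    have htK : t ∈ K := hX t (line_symm hD ht htP)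
    refine ⟨t * h2' * h1, mul_mem (mul_mem htK hh2) hh1, ?_⟩
    rw [mul_assoc t h2' h1, ← RootInv12.conj_conj t, ← RootInv12.conj_conj h2', ← e1, ← e2,
      RootInvolutions.inv_self hD ht]
    have e4 : (c * t) ^ 2 = d := by rw [← RootInv.four_symm hD ht hcP.1.1 ht4] at htd; exact htd
    calc c = c * (d * d) := by rw [RootInvolutions.mul_self hD hadj.1, mul_one]
      _ = c * ((c * t) ^ 2 * d) := by rw [e4]
      _ = t * c * t * d := by
          rw [sq]; simp only [← mul_assoc, RootInvolutions.mul_self hD hcP.1.1, one_mul]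
      _ = t * (c * d) * t := by
          simp only [mul_assoc]; rw [show t * d = d * t from (show Commute d t from htP.1.2.1).eq.symm]

end

end Cfsg.Agent.Lib.RootBlocks41
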