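import Cfsg.Agent.Lib.RootBlocks41.WeakTI

/-!
# S5053 and S5054 from Bender's theorem
-/

set_option autoImplicit false

namespace Cfsg.Agent.Lib.RootBlocks41

universe u

variable {G : Type u} [Group G] [Finite G] {D : Set G}

theorem row5054 (hP : BenderOne.PropSplit.{u}) (hD : Cfsg.IsNondegenerateRootInvolutionSet D)
    (hcl : Cfsg.IsRootInvolutionClass D) :
    (∀ d ∈ D, ∀ x ∈ Cfsg.oddPartners D d,
      Subgroup.closure (Cfsg.productPartners D d ∪ {x}) = ⊤) ∧
    Cfsg.IsConnectedSet (Cfsg.ProdAdj D) D :=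
  ⟨fun _ hd _ hx => (ndClass_of hD hcl).generation hP hd hx,
    fun _ ha _ hb => (ndClass_of hD hcl).linked hP ha hb⟩

theorem row5053 (hP : BenderOne.PropSplit.{u}) (hD : Cfsg.IsNondegenerateRootInvolutionSet D)
    (hcl : Cfsg.IsRootInvolutionClass D) {T : Set G} (hT : Cfsg.IsWeakTISubsetOfElements D T) :
    IsMulCommutative ↥(Subgroup.closure T) :=
  (ndClass_of hD hcl).weakTI_isMulCommutative hP hT

end Cfsg.Agent.Lib.RootBlocks41
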