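import Cfsg.Agent.Lib.RootBlocks41.Basic

/-!
# Root involutions with blocks: subgroups and quotients
-/

set_option autoImplicit false
set_option linter.unusedSectionVars false

namespace Cfsg.Agent.Lib.RootBlocks41

open Cfsg.Agent.Lib.Elem70

variable {G : Type*} [Group G] {D : Set G} {R : G → G → Prop}

namespace Blocks

variable (h : Blocks D R)
include h

/-- A subset closed under its own conjugation and squares, meeting two blocks. -/
theorem sub [Finite G] {S : Set G} (hS : S ⊆ D) (hconj : ∀ s ∈ S, ∀ t ∈ S, s * t * s ∈ S)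
    (hsq : ∀ a ∈ S, ∀ b ∈ S, orderOf (a * b) = 4 → (a * b) ^ 2 ∈ S)
    (hex : ∃ a ∈ S, ∃ e ∈ S, ¬ R a e) :
    Blocks {x : ↥(Subgroup.closure S) | (x : G) ∈ S} (fun x y => R x y) := by
  set W := Subgroup.closure S with hW
  set D' : Set ↥W := {x | (x : G) ∈ S}
  have hconjW : ∀ g ∈ W, ∀ s ∈ S, g * s * g⁻¹ ∈ S := by
    intro g hg
    induction hg using Subgroup.closure_induction'' with
    | mem y hy => intro s hs; rw [RootInvolutions.inv_self h.hD (hS hy)]; exact hconj y hy s hs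
    | inv_mem y hy =>
      intro s hs; rw [inv_inv, RootInvolutions.inv_self h.hD (hS hy)]; exact hconj y hy s hs
    | one => intro s hs; simpa using hs
    | mul p q _ _ ihp ihq => intro s hs; rw [← RootInv12.conj_conj]; exact ihp _ (ihq s hs)
  have hD' : Cfsg.IsRootInvolutionSet D' := by
    refine ⟨fun x hx => by rw [← Subgroup.orderOf_coe]; exact h.hD.orderOf_eq _ (hS hx),
      Subgroup.closure_closure_coe_preimage, fun x hx g => hconjW g g.2 _ hx, fun x hx y hy => ?_⟩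
    rcases h.hD.pair _ (hS hx) _ (hS hy) with hc | ho | ⟨h4, -⟩
    · exact Or.inl (Subtype.ext hc)
    · exact Or.inr (Or.inl (by rwa [← Subgroup.orderOf_coe]))
    · exact Or.inr (Or.inr ⟨by rwa [← Subgroup.orderOf_coe], hsq _ hx _ hy h4⟩)
  have hadj : ∀ x ∈ D', ∀ y ∈ D', ¬ R x y → Cfsg.OddAdj D' x y := by
    intro x hx y hy hn
    obtain ⟨-, -, hne, ho⟩ := h.adj_of_not (hS hx) (hS hy) hn
    exact ⟨hx, hy, fun e => hne (congrArg Subtype.val e), by rwa [← Subgroup.orderOf_coe]⟩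
  obtain ⟨a, ha, e, he, hne⟩ := hex
  refine ⟨hD', RootInv12.exists_conj_of_connected hD' ?_,
    fun hx hy => h.symm (hS hx) (hS hy), fun hx hy hz => h.trans (hS hx) (hS hy) (hS hz),
    fun hx hy hr g => h.conj (hS hx) (hS hy) hr g,
    fun hx hy hc => h.comm (hS hx) (hS hy) (congrArg Subtype.val hc), ?_⟩
  · intro x hx y hy
    by_cases hxy : R x y
    · obtain ⟨z, hz, hxz⟩ : ∃ z ∈ D', ¬ R x z := by
        by_contra hall
        push Not at hall
        have h1 := hall ⟨a, Subgroup.subset_closure ha⟩ ha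
        have h2 := hall ⟨e, Subgroup.subset_closure he⟩ he
        exact hne (h.trans (hS ha) (hS hx) (hS he) (h.symm (hS hx) (hS ha) h1) h2)
      have hyz : ¬ R y z := fun hyz => hxz (h.trans (hS hx) (hS hy) (hS hz) hxy hyz)
      exact (Relation.ReflTransGen.single (hadj x hx z hz hxz)).tail
        (RootInvolutions.adj_symm hD' (hadj y hy z hz hyz))
    · exact Relation.ReflTransGen.single (hadj x hx y hy hxy)
  · exact ⟨⟨a, Subgroup.subset_closure ha⟩, ha, ⟨e, Subgroup.subset_closure he⟩, he, hne⟩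

/-- Members on a line commute with the conjugates of each other under a normal subgroup avoiding
`D`. -/
theorem commute_conj_of_line {N : Subgroup G} [N.Normal] (hN : ∀ d ∈ D, d ∉ N) {a b : G}
    (ha : a ∈ D) (hb : b ∈ Cfsg.productPartners D a) {k : G} (hk : k ∈ N) :
    Commute a (k * b * k⁻¹) := by
  have hbk : k * b * k⁻¹ ∈ D := conj_self h.hD k hb.1.1
  have hab : a * b ∈ D := by rw [← show b * a = a * b from hb.1.2.1]; exact hb.2
  have hq : (QuotientGroup.mk (a * (k * b * k⁻¹)) : G ⧸ N) = QuotientGroup.mk (a * b) := by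
    have h1 : (QuotientGroup.mk k : G ⧸ N) = 1 := (QuotientGroup.eq_one_iff k).mpr hk
    simp only [QuotientGroup.mk_mul, QuotientGroup.mk_inv, h1, one_mul, inv_one, mul_one]
  have hab2 : (QuotientGroup.mk (a * b) : G ⧸ N) ^ 2 = 1 := by
    rw [← QuotientGroup.mk_pow, sq, RootInvolutions.mul_self h.hD hab, QuotientGroup.mk_one]
  rcases trichotomy h.hD ha hbk with hc | ho | ⟨-, hg⟩
  · exact hc
  · exfalso
    apply hN _ hab
    rw [← QuotientGroup.eq_one_iff]
    obtain ⟨m, hm⟩ := ho.2.2.2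
    have h2 : (QuotientGroup.mk (a * b) : G ⧸ N) ^ (2 * m + 1) = 1 := by
      rw [← hq, ← QuotientGroup.mk_pow, ← hm, pow_orderOf_eq_one, QuotientGroup.mk_one]
    rwa [pow_succ, pow_mul, hab2, one_pow, one_mul] at h2
  · exfalso
    apply hN _ hg
    rw [← QuotientGroup.eq_one_iff, QuotientGroup.mk_pow, hq, hab2]

/-- Every member commutes with its conjugates under such a subgroup. -/
theorem commute_conj_self {N : Subgroup G} [N.Normal] (hl : HasLine D) (hN : ∀ d ∈ D, d ∉ N)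
    {a : G} (ha : a ∈ D) {k : G} (hk : k ∈ N) : Commute a (k * a * k⁻¹) := by
  obtain ⟨b, hb⟩ := h.hasLine_all hl ha
  have hc := line_third h.hD ha hb
  have h1 := h.commute_conj_of_line hN ha hb hk
  have h2 := h.commute_conj_of_line hN ha hc hk
  have := h1.mul_right h2
  rwa [← RootInv12.conj_mul', ← mul_assoc b b a, RootInvolutions.mul_self h.hD hb.1.1, one_mul]
    at this

theorem commute_of_mk {N : Subgroup G} [N.Normal] (hl : HasLine D) (hN : ∀ d ∈ D, d ∉ N)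
    {a b : G} (ha : a ∈ D) (hb : b ∈ D)
    (hc : Commute (QuotientGroup.mk a : G ⧸ N) (QuotientGroup.mk b)) : Commute a b := by
  have haa : (QuotientGroup.mk a : G ⧸ N) * QuotientGroup.mk a = 1 := by
    rw [← QuotientGroup.mk_mul, RootInvolutions.mul_self h.hD ha, QuotientGroup.mk_one]
  have hbb : (QuotientGroup.mk b : G ⧸ N) * QuotientGroup.mk b = 1 := by
    rw [← QuotientGroup.mk_mul, RootInvolutions.mul_self h.hD hb, QuotientGroup.mk_one]
  have h2 : (a * b) ^ 2 ∈ N := by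
    rw [← QuotientGroup.eq_one_iff, QuotientGroup.mk_pow, QuotientGroup.mk_mul, hc.mul_pow, sq, sq,
      haa, hbb, one_mul]
  rcases trichotomy h.hD ha hb with hcm | ho | ⟨-, hg⟩
  · exact hcm
  · obtain ⟨m, hm⟩ := ho.2.2.2
    set z := a * b with hz
    have hz1 : z ^ (2 * m + 1) = 1 := by rw [← hm]; exact pow_orderOf_eq_one z
    have hzN : z ∈ N := by
      have : z = ((z ^ 2) ^ (m + 1)) := by
        rw [← pow_mul, show 2 * (m + 1) = 2 * m + 1 + 1 by omega, pow_succ, hz1, one_mul]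
      rw [this]; exact pow_mem h2 _
    have hbz : z ^ m * a * (z ^ m)⁻¹ = b := by
      have hf : a * (z ^ m)⁻¹ = z ^ m * a := by
        have := flip_pow h.hD ha hb m
        rw [← hz] at this
        calc a * (z ^ m)⁻¹ = a * ((z ^ m)⁻¹ * a) * a := by
              simp only [mul_assoc, RootInvolutions.mul_self h.hD ha, mul_one]
          _ = z ^ m * a := by
              rw [← this, ← mul_assoc, RootInvolutions.mul_self h.hD ha, one_mul]
      rw [mul_assoc, hf, ← mul_assoc, ← pow_add]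
      have e : z ^ (m + m) = z⁻¹ :=
        eq_inv_of_mul_eq_one_left (by rw [← pow_succ, show m + m + 1 = 2 * m + 1 by omega, hz1])
      rw [e, hz, mul_inv_rev, RootInvolutions.inv_self h.hD ha, RootInvolutions.inv_self h.hD hb,
        mul_assoc, RootInvolutions.mul_self h.hD ha, mul_one]
    have hcz := h.commute_conj_self hl hN ha (pow_mem hzN m)
    rwa [hbz] at hcz
  · exact absurd h2 (hN _ hg)

/-- Equal images: commuting, hence related. -/
theorem rel_of_mk_eq {N : Subgroup G} [N.Normal] (hl : HasLine D) (hN : ∀ d ∈ D, d ∉ N)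
    {a b : G} (ha : a ∈ D) (hb : b ∈ D) (e : (QuotientGroup.mk a : G ⧸ N) = QuotientGroup.mk b) :
    R a b :=
  h.comm ha hb (h.commute_of_mk hl hN ha hb (by rw [e]))

/-- The image in a quotient avoiding `D`. -/
theorem quot [Finite G] (hl : HasLine D) {N : Subgroup G} [N.Normal] (hN : ∀ d ∈ D, d ∉ N) :
    Blocks ((QuotientGroup.mk : G → G ⧸ N) '' D)
      (fun x y => ∃ a ∈ D, ∃ b ∈ D,
        (QuotientGroup.mk a : G ⧸ N) = x ∧ (QuotientGroup.mk b : G ⧸ N) = y ∧ R a b) := by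
  set q : G →* G ⧸ N := QuotientGroup.mk' N
  have hne : ∀ d ∈ D, (QuotientGroup.mk d : G ⧸ N) ≠ 1 := fun d hd e =>
    hN d hd ((QuotientGroup.eq_one_iff d).mp e)
  have hrel : ∀ {a b : G}, a ∈ D → b ∈ D → (∃ a' ∈ D, ∃ b' ∈ D, (QuotientGroup.mk a' : G ⧸ N) =
      QuotientGroup.mk a ∧ (QuotientGroup.mk b' : G ⧸ N) = QuotientGroup.mk b ∧ R a' b') → R a b := by
    rintro a b ha hb ⟨a', ha', b', hb', ea, eb, hr⟩
    exact h.trans ha ha' hb (h.symm ha' ha (h.rel_of_mk_eq hl hN ha' ha ea))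
      (h.trans ha' hb' hb hr (h.rel_of_mk_eq hl hN hb' hb eb))
  refine ⟨⟨?_, ?_, ?_, ?_⟩, ?_, ?_, ?_, ?_, ?_, ?_⟩
  · rintro _ ⟨d, hd, rfl⟩
    refine orderOf_eq_prime ?_ (hne d hd)
    rw [← QuotientGroup.mk_pow, sq, RootInvolutions.mul_self h.hD hd, QuotientGroup.mk_one]
  · rw [show (QuotientGroup.mk : G → G ⧸ N) '' D = q '' D from rfl, ← MonoidHom.map_closure,
      h.hD.generates, ← MonoidHom.range_eq_map]
    exact MonoidHom.range_eq_top.mpr (QuotientGroup.mk'_surjective N)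
  · rintro _ ⟨d, hd, rfl⟩ x
    obtain ⟨g, rfl⟩ := QuotientGroup.mk'_surjective N x
    exact ⟨g * d * g⁻¹, conj_self h.hD g hd, by simp⟩
  · rintro _ ⟨a, ha, rfl⟩ _ ⟨b, hb, rfl⟩
    rcases h.hD.pair a ha b hb with hc | ho | ⟨h4, hg⟩
    · exact Or.inl (by rw [← QuotientGroup.mk_mul, hc, QuotientGroup.mk_mul])
    · refine Or.inr (Or.inl (ho.of_dvd_nat ?_))
      rw [← QuotientGroup.mk_mul]
      exact orderOf_map_dvd q (a * b)
    · refine Or.inr (Or.inr ⟨?_, ⟨_, hg, by rw [QuotientGroup.mk_pow, QuotientGroup.mk_mul]⟩⟩)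
      rw [← QuotientGroup.mk_mul]
      refine orderOf_eq_prime_pow (p := 2) (n := 1) ?_ ?_
      · rw [pow_one, ← QuotientGroup.mk_pow]
        exact hne _ hg
      · rw [← QuotientGroup.mk_pow, show (2 : ℕ) ^ (1 + 1) = orderOf (a * b) by rw [h4]; norm_num,
          pow_orderOf_eq_one, QuotientGroup.mk_one]
  · rintro _ ⟨a, ha, rfl⟩ _ ⟨b, hb, rfl⟩
    obtain ⟨g, rfl⟩ := h.cl a ha b hb
    exact ⟨QuotientGroup.mk g, by simp⟩
  · rintro x y _ _ ⟨a, ha, b, hb, ea, eb, hr⟩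
    exact ⟨b, hb, a, ha, eb, ea, h.symm ha hb hr⟩
  · rintro x y z - - - ⟨a, ha, b, hb, ea, eb, hr⟩ ⟨b', hb', c, hc, eb', ec, hr'⟩
    refine ⟨a, ha, c, hc, ea, ec, h.trans ha hb hc hr (h.trans hb hb' hc ?_ hr')⟩
    exact h.rel_of_mk_eq hl hN hb hb' (eb.trans eb'.symm)
  · rintro x y - - ⟨a, ha, b, hb, ea, eb, hr⟩ g
    obtain ⟨g, rfl⟩ := QuotientGroup.mk'_surjective N g
    exact ⟨g * a * g⁻¹, conj_self h.hD g ha, g * b * g⁻¹, conj_self h.hD g hb,
      by subst ea; simp, by subst eb; simp, h.conj ha hb hr g⟩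
  · rintro _ _ ⟨a, ha, rfl⟩ ⟨b, hb, rfl⟩ hc
    exact ⟨a, ha, b, hb, rfl, rfl, h.comm ha hb (h.commute_of_mk hl hN ha hb hc)⟩
  · obtain ⟨a, ha, e, he, hn⟩ := h.ex
    exact ⟨_, ⟨a, ha, rfl⟩, _, ⟨e, he, rfl⟩, fun hr => hn (hrel ha he hr)⟩

theorem quot_hasLine [Finite G] (hl : HasLine D) {N : Subgroup G} [N.Normal]
    (hN : ∀ d ∈ D, d ∉ N) : HasLine ((QuotientGroup.mk : G → G ⧸ N) '' D) := by
  obtain ⟨a, ha, b, hb⟩ := hl
  refine ⟨_, ⟨a, ha, rfl⟩, QuotientGroup.mk b, ⟨⟨b, hb.1.1, rfl⟩, ?_, fun e => ?_⟩,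
    ⟨_, hb.2, QuotientGroup.mk_mul N b a⟩⟩
  · rw [← QuotientGroup.mk_mul, hb.1.2.1, QuotientGroup.mk_mul]
  · refine hN _ hb.2 ((QuotientGroup.eq_one_iff _).mp ?_)
    rw [QuotientGroup.mk_mul, e, ← QuotientGroup.mk_mul, RootInvolutions.mul_self h.hD ha,
      QuotientGroup.mk_one]

theorem quot_hasFour [Finite G] (hl : HasLine D) (hf : HasFour D) {N : Subgroup G} [N.Normal]
    (hN : ∀ d ∈ D, d ∉ N) : HasFour ((QuotientGroup.mk : G → G ⧸ N) '' D) := by
  obtain ⟨a, ha, b, hb, h4⟩ := hf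
  refine ⟨_, ⟨a, ha, rfl⟩, _, ⟨b, hb, rfl⟩, ?_⟩
  rcases ((h.quot hl hN).hD.pair _ ⟨a, ha, rfl⟩ _ ⟨b, hb, rfl⟩) with hc | ho | ⟨h4', -⟩
  · exact absurd (h.commute_of_mk hl hN ha hb hc).eq (RootInv.not_comm_of_four h.hD ha hb h4)
  · exfalso
    have hd : orderOf (QuotientGroup.mk (a * b) : G ⧸ N) ∣ 4 := by
      rw [← h4]; exact orderOf_map_dvd (QuotientGroup.mk' N) (a * b)
    rw [← QuotientGroup.mk_mul] at ho
    have h1 : orderOf (QuotientGroup.mk (a * b) : G ⧸ N) = 1 :=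
      Nat.eq_one_of_dvd_coprimes ((Nat.coprime_two_right.mpr ho).pow_right 2) dvd_rfl
        (by simpa using hd)
    rw [orderOf_eq_one_iff] at h1
    exact RootInv.not_comm_of_four h.hD ha hb h4 (h.commute_of_mk hl hN ha hb (by
      rw [show (QuotientGroup.mk b : G ⧸ N) = (QuotientGroup.mk a)⁻¹ from
        eq_inv_of_mul_eq_one_right (by rw [← QuotientGroup.mk_mul]; exact h1)]
      exact (Commute.refl _).inv_right)).eq
  · exact h4'

theorem quot_odd [Finite G] (hl : HasLine D) (ho : OddBlocks D R) {N : Subgroup G} [N.Normal]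
    (hN : ∀ d ∈ D, d ∉ N) :
    OddBlocks ((QuotientGroup.mk : G → G ⧸ N) '' D)
      (fun x y => ∃ a ∈ D, ∃ b ∈ D,
        (QuotientGroup.mk a : G ⧸ N) = x ∧ (QuotientGroup.mk b : G ⧸ N) = y ∧ R a b) := by
  classical
  rintro _ ⟨a, ha, rfl⟩
  set q : G → G ⧸ N := QuotientGroup.mk with hq
  set s := (Set.toFinite (cls D R a)).toFinset with hs
  have hms : ∀ x, x ∈ s ↔ x ∈ D ∧ R a x := fun x => by rw [hs, Set.Finite.mem_toFinset]; rfl
  set F : G → Finset G := fun c => (Set.toFinite {x | x ∈ D ∧ q x = q c}).toFinset with hF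
  have hmF : ∀ c x, x ∈ F c ↔ x ∈ D ∧ q x = q c := fun c x => by
    rw [hF, Set.Finite.mem_toFinset]; rfl
  have hconst : ∀ c ∈ D, (F c).card = (F a).card := by
    intro c hc
    obtain ⟨g, rfl⟩ := h.cl a ha c hc
    refine (Finset.card_bij (fun x _ => g * x * g⁻¹) ?_ ?_ ?_).symm
    · intro x hx
      obtain ⟨hx1, hx2⟩ := (hmF a x).mp hx
      exact (hmF _ _).mpr ⟨conj_self h.hD g hx1, by
        simp only [hq, QuotientGroup.mk_mul, QuotientGroup.mk_inv] at hx2 ⊢; rw [hx2]⟩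
    · intro x _ y _ e; exact RootInv12.conj_injective g e
    · intro y hy
      obtain ⟨hy1, hy2⟩ := (hmF _ _).mp hy
      refine ⟨g⁻¹ * y * g, (hmF _ _).mpr ⟨by simpa using conj_self h.hD g⁻¹ hy1, ?_⟩, by group⟩
      simp only [hq, QuotientGroup.mk_mul, QuotientGroup.mk_inv] at hy2 ⊢
      rw [hy2]; group
  have himg : cls (q '' D) (fun x y => ∃ u ∈ D, ∃ w ∈ D, q u = x ∧ q w = y ∧ R u w) (q a) =
      ↑(s.image q) := by
    ext y
    simp only [Finset.coe_image, Set.mem_image, Finset.mem_coe, hms]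
    constructor
    · rintro ⟨-, u, hu, w, hw, eu, ew, hr⟩
      exact ⟨w, ⟨hw, h.trans ha hu hw (h.symm hu ha (h.rel_of_mk_eq hl hN hu ha eu)) hr⟩, ew⟩
    · rintro ⟨w, ⟨hw, hr⟩, rfl⟩
      exact ⟨⟨w, hw, rfl⟩, a, ha, w, hw, rfl, rfl, hr⟩
  have hcard : s.card = (s.image q).card * (F a).card := by
    rw [Finset.card_eq_sum_card_image q s]
    refine (Finset.sum_congr rfl fun y hy => ?_).trans (by rw [Finset.sum_const, smul_eq_mul])
    obtain ⟨c, hc, rfl⟩ := Finset.mem_image.mp hy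
    obtain ⟨hcD, hac⟩ := (hms c).mp hc
    rw [← hconst c hcD]
    congr 1
    ext x
    rw [Finset.mem_filter, hms, hmF]
    exact ⟨fun hx => ⟨hx.1.1, hx.2⟩, fun hx => ⟨⟨hx.1, h.trans ha hcD hx.1 hac
      (h.symm hx.1 hcD (h.rel_of_mk_eq hl hN hx.1 hcD hx.2))⟩, hx.2⟩⟩
  have hodd : Odd s.card := by
    rw [hs, ← Set.ncard_eq_toFinset_card _ (Set.toFinite _)]; exact ho a ha
  rw [hcard, Nat.odd_mul] at hodd
  rw [show cls (q '' D) _ (q a) = _ from himg, Set.ncard_coe_finset]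
  exact hodd.1

/-- A normal subgroup meeting `D` is everything. -/
theorem eq_top_of_mem {N : Subgroup G} [N.Normal] {a : G} (ha : a ∈ D) (haN : a ∈ N) : N = ⊤ := by
  rw [eq_top_iff, ← h.hD.generates, Subgroup.closure_le]
  intro b hb
  obtain ⟨g, rfl⟩ := h.cl a ha b hb
  exact (inferInstance : N.Normal).conj_mem a haN g

theorem nontrivial : Nontrivial G := by
  obtain ⟨a, ha, -⟩ := h.ex
  exact ⟨⟨a, 1, RootInvolutions.ne_one h.hD ha⟩⟩

end Blocks

end Cfsg.Agent.Lib.RootBlocks41
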