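import Cfsg.Agent.Lib.RootBlocks41.Connected

/-!
# Weak TI subsets of a non-degenerate class are commutative
-/

set_option autoImplicit false
set_option linter.unusedSectionVars false

namespace Cfsg.Agent.Lib.RootBlocks41

open Cfsg.Agent.Lib.Elem70

universe u

variable {G : Type u} [Group G] [Finite G] {D : Set G}

theorem NDClass.weakTI_commute (hP : BenderOne.PropSplit.{u}) (h : NDClass D) {T : Set G}
    (hT : Cfsg.IsWeakTISubsetOfElements D T) {b c : G} (hb : b ∈ T) (hc : c ∈ T) :
    Commute b c := by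
  have hD := h.hD
  obtain ⟨hTD, -, hTne, hTI⟩ := hT
  have hstab : ∀ d ∈ D, ∀ t ∈ T, d * t * d⁻¹ ∈ T → ∀ s ∈ T, d * s * d⁻¹ ∈ T := by
    intro d hd t ht hmem s hs
    rcases hTI d hd with e | e
    · rw [← e]; exact ⟨s, hs, rfl⟩
    · exact absurd hmem (Set.disjoint_left.mp e ⟨t, ht, rfl⟩)
  -- an adjacent pair in `T` is impossible
  have hkey : ∀ a ∈ T, ∀ x ∈ D, Cfsg.OddAdj D a x → (∀ s ∈ T, x * s * x⁻¹ ∈ T) → False := by
    intro a ha x hx hadj hxT
    have hgen := h.generation hP (hTD ha) (mem_oddPartners hD hadj)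
    have hall : ∀ g : G, ∀ s ∈ T, g * s * g⁻¹ ∈ T := by
      intro g
      have hg : g ∈ Subgroup.closure (Cfsg.productPartners D a ∪ {x}) := hgen ▸ Subgroup.mem_top g
      have hgenT : ∀ y ∈ Cfsg.productPartners D a ∪ {x}, y ∈ D ∧ ∀ s ∈ T, y * s * y⁻¹ ∈ T := by
        rintro y (hy | rfl)
        · exact ⟨hy.1.1, hstab y hy.1.1 a ha
            (by rw [show y * a = a * y from hy.1.2.1, mul_inv_cancel_right]; exact ha)⟩
        · exact ⟨hx, hxT⟩
      induction hg using Subgroup.closure_induction'' with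
      | mem y hy => exact (hgenT y hy).2
      | inv_mem y hy =>
        rw [RootInvolutions.inv_self hD (hgenT y hy).1]
        exact fun s hs => by
          have := (hgenT y hy).2 s hs
          rw [RootInvolutions.inv_self hD (hgenT y hy).1] at this ⊢
          exact this
      | one => simp
      | mul p q _ _ ihp ihq => intro s hs; rw [← RootInv12.conj_conj]; exact ihp _ (ihq s hs)
    refine hTne (Set.Subset.antisymm hTD fun d hd => ?_)
    obtain ⟨g, rfl⟩ := h.cl a (hTD ha) d hd
    exact hall g a ha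
  have hselfT : ∀ t ∈ T, ∀ s ∈ T, t * s * t⁻¹ ∈ T := fun t ht =>
    hstab t (hTD ht) t ht (by rw [mul_inv_cancel_right]; exact ht)
  by_contra hnc
  rcases trichotomy hD (hTD hb) (hTD hc) with hcm | ho | ⟨h4, hg⟩
  · exact hnc hcm
  · exact hkey b hb c (hTD hc) ho (hselfT c hc)
  · -- a partner of `b` adjacent to `c`
    obtain ⟨hgb, -, hgP, -⟩ := sq_facts hD (hTD hb) (hTD hc) h4 hg
    set f := (b * c) ^ 2
    have h4' : orderOf (c * b) = 4 := by rw [RootInv.orderOf_comm hD (hTD hb) (hTD hc)]; exact h4
    have hfc : f ∈ Cfsg.productPartners D c := (sq_facts hD (hTD hb) (hTD hc) h4 hg).2.2.2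
    have hne : Cfsg.commutingMembers D f ≠ Cfsg.commutingMembers D b := fun e => by
      have h1 : c ∈ Cfsg.commutingMembers D f := ⟨hTD hc, Eq.symm hfc.1.2.1⟩
      rw [e] at h1
      exact hnc h1.2.symm
    have hbf : b ∈ Cfsg.productPartners D f := line_symm hD (hTD hb) hgP
    obtain ⟨p, hp, hpn⟩ := RootInv.exists_odd_outside hD h.conn hg hbf hne
    obtain ⟨x, hx, hx4, hxb⟩ := RootInv.exists_mover hD hg hp hbf
      (RootInv.four_of_not_odd hD hg hbf hp hpn).1
    obtain ⟨-, hbx, -, -⟩ := sq_facts hD hg hx hx4 (by rw [hxb]; exact hTD hb)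
    rw [hxb] at hbx
    have hadj : Cfsg.OddAdj D c x := by
      by_contra hn
      have hr4 := RootInvolutions.pow_four_of_not_adj hD (hTD hc) hx hn
      have cc := RootInvolutions.mul_self hD (hTD hc)
      have xx := RootInvolutions.mul_self hD hx
      have bb := RootInvolutions.mul_self hD (hTD hb)
      have hcinv := RootInvolutions.inv_self hD (hTD hc)
      have hxinv := RootInvolutions.inv_self hD hx
      have e_cb : c * b * c = b * f := RootInv.four_conj hD (hTD hb) (hTD hc)
      have e_xf : x * f * x = f * b := by rw [RootInv.four_conj hD hg hx, hxb]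
      have e_xb : x * b * x = b := by rw [← hbx.eq, mul_assoc, xx, mul_one]
      have e_cf : c * f * c = f := by
        rw [← show f * c = c * f from hfc.1.2.1, mul_assoc, cc, mul_one]
      set r := c * x with hr
      have hconj : ∀ y, r * y * r⁻¹ = c * (x * y * x) * c := fun y => by
        rw [hr, mul_inv_rev, hcinv, hxinv]; simp only [mul_assoc]
      have hbfc : Commute b f := hgb.symm
      have r1 : r * f * r⁻¹ = b := by
        rw [hconj, e_xf]
        calc c * (f * b) * c = c * f * c * (c * b * c) := by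
              simp only [mul_assoc]; rw [← mul_assoc c c, cc, one_mul]
          _ = b := by
            rw [e_cf, e_cb, hbfc.eq, ← mul_assoc, RootInvolutions.mul_self hD hg, one_mul]
      have r2 : r * b * r⁻¹ = b * f := by rw [hconj, e_xb, e_cb]
      have r3 : r * (b * f) * r⁻¹ = f := by
        rw [RootInv12.conj_mul', r1, r2, hbfc.eq, mul_assoc, bb, mul_one]
      have h0 : r ^ 4 * f * (r ^ 4)⁻¹ = b := by
        rw [show r ^ 4 = r * (r * (r * r)) by simp only [pow_succ, pow_zero, one_mul, mul_assoc],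
          ← RootInv12.conj_conj r, ← RootInv12.conj_conj r, ← RootInv12.conj_conj r, r1, r2, r3, r1]
      rw [hr4, inv_one, one_mul, mul_one] at h0
      exact hgP.1.2.2 h0
    refine hkey c hc x hx hadj (hstab x hx b hb ?_)
    rw [← hbx.eq, mul_inv_cancel_right]; exact hb

theorem NDClass.weakTI_isMulCommutative (hP : BenderOne.PropSplit.{u}) (h : NDClass D) {T : Set G}
    (hT : Cfsg.IsWeakTISubsetOfElements D T) : IsMulCommutative ↥(Subgroup.closure T) :=
  Subgroup.isMulCommutative_closure fun _ hb _ hc => (h.weakTI_commute hP hT hb hc).eq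

end Cfsg.Agent.Lib.RootBlocks41
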